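import Groth.Agent.AlgStLib.Stack
import Groth.Agent.FibLib.Yoneda
import Groth.Agent.GerbeLib.Basic

/-!
# Descent of objects and morphisms of a stack along a covering family
-/

set_option autoImplicit false
set_option backward.isDefEq.respectTransparency false
set_option backward.isDefEq.respectTransparency.types false

universe v u v₁ u₁ w

open CategoryTheory FibCat FibLib
open CategoryTheory.Functor (IsStronglyCartesian)

noncomputable section

namespace StackSecLib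

variable {C : Type u} [Category.{v} C] {𝒳 : BasedCategory.{v₁, u₁} C}

/-- The sieve of a family. -/
def famSieve {Z : C} {ι : Type w} {W : ι → C} (c : ∀ i, W i ⟶ Z) : Sieve Z where
  arrows T g := ∃ (i : ι) (w : T ⟶ W i), w ≫ c i = g
  downward_closed := by
    rintro T T' g ⟨i, w, rfl⟩ m
    exact ⟨i, m ≫ w, Category.assoc _ _ _⟩

/-- Objects on the members of a family with transition maps. -/
structure Datum (𝒳 : BasedCategory.{v₁, u₁} C) {Z : C} {ι : Type w} {W : ι → C} (c : ∀ i, W i ⟶ Z) where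
  /-- the objects -/
  X : ∀ i, overCat (W i) ⥤ᵇ 𝒳
  /-- the transition maps -/
  φ : ∀ {T : C} {i j : ι} (w : T ⟶ W i) (w' : T ⟶ W j), w ≫ c i = w' ≫ c j →
    ((X i).obj (Over.mk w) ⟶ (X j).obj (Over.mk w'))
  φ_lift : ∀ {T : C} {i j : ι} (w : T ⟶ W i) (w' : T ⟶ W j) (e : w ≫ c i = w' ≫ c j),
    𝒳.p.IsHomLift (𝟙 T) (φ w w' e)
  φ_nat : ∀ {T T' : C} {i j : ι} (m : T' ⟶ T) (w : T ⟶ W i) (w' : T ⟶ W j) (e : w ≫ c i = w' ≫ c j),
    φ (m ≫ w) (m ≫ w') (by rw [Category.assoc, e, ← Category.assoc]) ≫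
        (X j).map (Over.homMk m rfl : Over.mk (m ≫ w') ⟶ Over.mk w') =
      (X i).map (Over.homMk m rfl : Over.mk (m ≫ w) ⟶ Over.mk w) ≫ φ w w' e
  φ_trans : ∀ {T : C} {i j k : ι} (w : T ⟶ W i) (w' : T ⟶ W j) (w'' : T ⟶ W k) (e : w ≫ c i = w' ≫ c j)
    (e' : w' ≫ c j = w'' ≫ c k), φ w w' e ≫ φ w' w'' e' = φ w w'' (e.trans e')

variable [IsFibGrpd 𝒳.p] {Z : C} {ι : Type w} {W : ι → C} {c : ∀ i, W i ⟶ Z}

namespace Datum

variable (D : Datum 𝒳 c)

lemma φ_self {T : C} {i : ι} (w : T ⟶ W i) : D.φ w w rfl = 𝟙 _ := by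
  haveI := D.φ_lift w w rfl
  haveI : IsIso (D.φ w w rfl) := isIso_of_isHomLift (p := 𝒳.p) (𝟙 T) _
  rw [← cancel_epi (D.φ w w rfl), D.φ_trans, Category.comp_id]

/-- A transition map followed by a restriction. -/
def st {T T' : C} {i j : ι} (u : T' ⟶ W i) (n : T' ⟶ T) (w : T ⟶ W j) (e : u ≫ c i = (n ≫ w) ≫ c j) :
    (D.X i).obj (Over.mk u) ⟶ (D.X j).obj (Over.mk w) :=
  D.φ u (n ≫ w) e ≫ (D.X j).map (Over.homMk n rfl : Over.mk (n ≫ w) ⟶ Over.mk w)

lemma st_congr {T T' : C} {i j : ι} {u : T' ⟶ W i} {n n' : T' ⟶ T} (h : n = n') (w : T ⟶ W j)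
    (e : u ≫ c i = (n ≫ w) ≫ c j) (e' : u ≫ c i = (n' ≫ w) ≫ c j) : D.st u n w e = D.st u n' w e' := by
  subst h; rfl

lemma st_id {T : C} {i j : ι} (u : T ⟶ W i) (w : T ⟶ W j) (e : u ≫ c i = (𝟙 T ≫ w) ≫ c j) :
    D.st u (𝟙 T) w e = D.φ u w (e.trans (by rw [Category.id_comp])) := by
  have key : ∀ (a : T ⟶ W j) (ha : a = w) (e₁ : u ≫ c i = a ≫ c j) (e₂ : u ≫ c i = w ≫ c j)
      (f : Over.mk a ⟶ Over.mk w), f.left = 𝟙 T →
      D.φ u a e₁ ≫ (D.X j).map f = D.φ u w e₂ := by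
    rintro a rfl e₁ e₂ f hf
    rw [show f = 𝟙 _ from Over.OverMorphism.ext hf, CategoryTheory.Functor.map_id]
    exact Category.comp_id _
  exact key _ (Category.id_comp w) _ _ _ rfl

lemma φ_st {T T' : C} {i j k : ι} (u : T' ⟶ W i) (v : T' ⟶ W k) (n : T' ⟶ T) (w : T ⟶ W j)
    (h : u ≫ c i = v ≫ c k) (e : v ≫ c k = (n ≫ w) ≫ c j) :
    D.φ u v h ≫ D.st v n w e = D.st u n w (h.trans e) := by
  unfold st
  rw [← Category.assoc, D.φ_trans]

lemma st_φ {T T' : C} {i j k : ι} (u : T' ⟶ W i) (n : T' ⟶ T) (w : T ⟶ W j) (w' : T ⟶ W k)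
    (e : u ≫ c i = (n ≫ w) ≫ c j) (h : w ≫ c j = w' ≫ c k) :
    D.st u n w e ≫ D.φ w w' h =
      D.st u n w' (by rw [e, Category.assoc, Category.assoc, h]) := by
  unfold st
  rw [Category.assoc, ← D.φ_nat n w w' h, ← Category.assoc, D.φ_trans]

lemma st_st {T T' T'' : C} {i j k : ι} (u : T'' ⟶ W i) (m : T'' ⟶ T') (v : T' ⟶ W k) (n : T' ⟶ T)
    (w : T ⟶ W j) (e : u ≫ c i = (m ≫ v) ≫ c k) (e' : v ≫ c k = (n ≫ w) ≫ c j) :
    D.st u m v e ≫ D.st v n w e' = D.st u (m ≫ n) w (by simp only [e, Category.assoc] at e' ⊢; rw [e']) := by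
  conv_lhs => rhs; unfold st
  rw [← Category.assoc, D.st_φ]
  unfold st
  rw [Category.assoc, ← Functor.map_comp]
  have key : ∀ (a b : T'' ⟶ W j) (ha : a = b) (e₁ : u ≫ c i = a ≫ c j) (e₂ : u ≫ c i = b ≫ c j)
      (f : Over.mk a ⟶ Over.mk w) (g : Over.mk b ⟶ Over.mk w), f.left = g.left →
      D.φ u a e₁ ≫ (D.X j).map f = D.φ u b e₂ ≫ (D.X j).map g := by
    rintro a _ rfl e₁ e₂ f g hfg
    rw [show f = g from Over.OverMorphism.ext hfg]
  exact key _ _ (Category.assoc _ _ _).symm _ _ _ _ rfl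

/-- The index of a member of the sieve. -/
def idx (g : (Stk.sieveCat (famSieve c)).obj) : ι := g.property.choose

/-- The lift of a member of the sieve. -/
def lft (g : (Stk.sieveCat (famSieve c)).obj) : g.obj.left ⟶ W (idx g) := g.property.choose_spec.choose

lemma lft_c (g : (Stk.sieveCat (famSieve c)).obj) : lft g ≫ c (idx g) = g.obj.hom :=
  g.property.choose_spec.choose_spec

lemma lft_cond {g' g : (Stk.sieveCat (famSieve c)).obj} (m : g' ⟶ g) :
    lft g' ≫ c (idx g') = (m.hom.left ≫ lft g) ≫ c (idx g) := by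
  rw [Category.assoc, lft_c, lft_c]
  exact (Over.w m.hom).symm

/-- The functor on the sieve. -/
def fn : Stk.sieveCat (famSieve c) ⥤ᵇ 𝒳 where
  toFunctor :=
    { obj := fun g => (D.X (idx g)).obj (Over.mk (lft g))
      map := fun {g' g} m => D.st (lft g') m.hom.left (lft g) (lft_cond m)
      map_id := fun g => by
        show D.st (lft g) (𝟙 _) (lft g) _ = _
        rw [D.st_id, D.φ_self]
      map_comp := fun {g'' g' g} m' m => by
        rw [D.st_st]
        rfl }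
  w := by
    refine CategoryTheory.Functor.ext (fun g => (D.X (idx g)).w_obj _) fun g' g m => ?_
    haveI : 𝒳.p.IsHomLift m.hom.left (D.st (lft g') m.hom.left (lft g) (lft_cond m)) :=
      GerbeLib.isHomLift_id_comp _ _ _ _ (D.φ_lift (lft g') (m.hom.left ≫ lft g) (lft_cond m))
        (lift_map (D.X (idx g))
          (Over.homMk m.hom.left rfl : Over.mk (m.hom.left ≫ lft g) ⟶ Over.mk (lft g)))
    exact IsHomLift.fac' 𝒳.p m.hom.left (D.st (lft g') m.hom.left (lft g) (lft_cond m))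

/-- Objects descend. -/
theorem exists_desc (h : Stk.IsStackFor (famSieve c) 𝒳) :
    ∃ (K : overCat Z ⥤ᵇ 𝒳) (ψ : ∀ i, BasedFunctor.comp (FibLib.overMap (c i)) K ≅ D.X i),
      ∀ {T : C} {i j : ι} (w : T ⟶ W i) (w' : T ⟶ W j) (e : w ≫ c i = w' ≫ c j)
        (k : Over.mk (w ≫ c i) ⟶ Over.mk (w' ≫ c j)), k.left = 𝟙 T →
        K.map k ≫ (ψ j).hom.toNatTrans.app (Over.mk w') =
          (ψ i).hom.toNatTrans.app (Over.mk w) ≫ D.φ w w' e := by
  haveI : (Stk.resSieve (famSieve c) 𝒳).IsEquivalence := h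
  let K := (Stk.resSieve (famSieve c) 𝒳).objPreimage D.fn
  let E : (Stk.resSieve (famSieve c) 𝒳).obj K ≅ D.fn := (Stk.resSieve (famSieve c) 𝒳).objObjPreimageIso D.fn
  let mem : ∀ {i : ι} (o : Over (W i)), (Stk.sieveCat (famSieve c)).obj := fun {i} o =>
    ⟨Over.mk (o.hom ≫ c i), i, o.hom, rfl⟩
  have hmem : ∀ {i : ι} (o : Over (W i)), lft (mem o) ≫ c (idx (mem o)) = o.hom ≫ c i := fun o => lft_c _
  let app : ∀ (i : ι) (o : Over (W i)), K.obj (Over.mk (o.hom ≫ c i)) ⟶ (D.X i).obj o := fun i o =>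
    E.hom.toNatTrans.app (mem o) ≫ D.φ (lft (mem o)) o.hom (hmem o)
  have appLift : ∀ (i : ι) (o : Over (W i)), 𝒳.p.IsHomLift (𝟙 o.left) (app i o) := fun i o => by
    exact GerbeLib.isHomLift_id_comp _ _ _ _ (BasedNatTrans.isHomLift E.hom (a := mem o) rfl)
      (D.φ_lift (lft (mem o)) o.hom (hmem o))
  have appNat : ∀ (i : ι) {o' o : Over (W i)} (k : o' ⟶ o),
      K.map ((FibLib.overMap (c i)).map k) ≫ app i o = app i o' ≫ (D.X i).map k := by
    intro i o' o k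
    let m : mem o' ⟶ mem o := ObjectProperty.homMk ((FibLib.overMap (c i)).map k)
    have hn : K.map ((FibLib.overMap (c i)).map k) ≫ E.hom.toNatTrans.app (mem o) =
        E.hom.toNatTrans.app (mem o') ≫ D.st (lft (mem o')) k.left (lft (mem o)) (lft_cond m) :=
      E.hom.toNatTrans.naturality m
    simp only [app]
    rw [reassoc_of% hn, D.st_φ]
    refine Eq.trans ?_ (Category.assoc _ _ _).symm
    congr 1
    unfold st
    have key : ∀ (a : o'.left ⟶ W i) (ha : a = o'.hom) (e₁ : lft (mem o') ≫ c _ = a ≫ c i)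
        (f : Over.mk a ⟶ o), f.left = k.left →
        D.φ (lft (mem o')) a e₁ ≫ (D.X i).map f = D.φ (lft (mem o')) o'.hom (hmem o') ≫ (D.X i).map k := by
      rintro a rfl e₁ f hf
      rw [show f = k from Over.OverMorphism.ext hf]
    exact key _ (Over.w k) _ _ rfl
  let ψ : ∀ i, BasedFunctor.comp (FibLib.overMap (c i)) K ⟶ D.X i := fun i =>
    { toNatTrans := { app := app i, naturality := fun o' o k => appNat i k }
      isHomLift' := appLift i }
  haveI : ∀ i, IsIso (ψ i) := fun i => AlgStLib.isIso_bnt (ψ i)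
  refine ⟨K, fun i => asIso (ψ i), fun {T i j} w w' e k hk => ?_⟩
  show K.map k ≫ app j (Over.mk w') = app i (Over.mk w) ≫ D.φ w w' e
  let m : mem (Over.mk w) ⟶ mem (Over.mk w') := ObjectProperty.homMk k
  have hn : K.map k ≫ E.hom.toNatTrans.app (mem (Over.mk w')) =
      E.hom.toNatTrans.app (mem (Over.mk w)) ≫
        D.st (lft (mem (Over.mk w))) k.left (lft (mem (Over.mk w'))) (lft_cond m) :=
    E.hom.toNatTrans.naturality m
  simp only [app]
  rw [reassoc_of% hn, Category.assoc]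
  congr 1
  rw [D.st_congr hk _ _ ((hmem (Over.mk w)).trans ((e.trans (hmem (Over.mk w')).symm).trans
    (congrArg (fun t => t ≫ c _) (Category.id_comp _).symm)))]
  refine (congrArg (fun t => t ≫ _) (D.st_id _ _ _)).trans ?_
  exact (D.φ_trans _ _ _ _ _).trans (D.φ_trans _ _ _ (hmem (Over.mk w)) e).symm

end Datum

/-- Morphisms descend. -/
theorem exists_hom_of_local (h : Stk.IsPrestackFor (famSieve c) 𝒳) (K K' : overCat Z ⥤ᵇ 𝒳)
    (ψ : ∀ i, BasedFunctor.comp (FibLib.overMap (c i)) K ⟶ BasedFunctor.comp (FibLib.overMap (c i)) K')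
    (hψ : ∀ {T : C} {i j : ι} (w : T ⟶ W i) (w' : T ⟶ W j) (_ : w ≫ c i = w' ≫ c j)
      (k : Over.mk (w ≫ c i) ⟶ Over.mk (w' ≫ c j)), k.left = 𝟙 T →
      K.map k ≫ (ψ j).toNatTrans.app (Over.mk w') = (ψ i).toNatTrans.app (Over.mk w) ≫ K'.map k) :
    ∃ α : K ⟶ K', ∀ (i : ι) (o : Over (W i)),
      α.toNatTrans.app ((FibLib.overMap (c i)).obj o) = (ψ i).toNatTrans.app o := by
  haveI := h.1
  let up : ∀ g : (Stk.sieveCat (famSieve c)).obj, g.obj ⟶ Over.mk (Datum.lft g ≫ c (Datum.idx g)) := fun g =>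
    Over.homMk (𝟙 g.obj.left) (by
      change 𝟙 _ ≫ Datum.lft g ≫ c (Datum.idx g) = g.obj.hom
      rw [Category.id_comp, Datum.lft_c])
  let dn : ∀ g : (Stk.sieveCat (famSieve c)).obj, Over.mk (Datum.lft g ≫ c (Datum.idx g)) ⟶ g.obj := fun g =>
    Over.homMk (𝟙 g.obj.left) (by
      change 𝟙 _ ≫ g.obj.hom = Datum.lft g ≫ c (Datum.idx g)
      rw [Category.id_comp, Datum.lft_c])
  let app : ∀ g : (Stk.sieveCat (famSieve c)).obj, K.obj g.obj ⟶ K'.obj g.obj := fun g =>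
    K.map (up g) ≫ (ψ (Datum.idx g)).toNatTrans.app (Over.mk (Datum.lft g)) ≫ K'.map (dn g)
  have lift : ∀ g, 𝒳.p.IsHomLift (𝟙 g.obj.left) (app g) := fun g => by
    haveI : 𝒳.p.IsHomLift (𝟙 g.obj.left) (K.map (up g)) := lift_map K (up g)
    haveI : 𝒳.p.IsHomLift (𝟙 g.obj.left) (K'.map (dn g)) := lift_map K' (dn g)
    haveI : 𝒳.p.IsHomLift (𝟙 g.obj.left)
        ((ψ (Datum.idx g)).toNatTrans.app (Over.mk (Datum.lft g))) := BasedNatTrans.isHomLift _ rfl
    exact GerbeLib.isHomLift_id_comp _ _ _ _ inferInstance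
      (GerbeLib.isHomLift_id_comp _ _ _ _ inferInstance inferInstance)
  have nat : ∀ {g' g : (Stk.sieveCat (famSieve c)).obj} (m : g' ⟶ g),
      K.map m.hom ≫ app g = app g' ≫ K'.map m.hom := by
    intro g' g m
    let i := Datum.idx g
    let n : Over.mk (m.hom.left ≫ Datum.lft g) ⟶ Over.mk (Datum.lft g) := Over.homMk m.hom.left rfl
    let k : Over.mk (Datum.lft g' ≫ c (Datum.idx g')) ⟶ Over.mk ((m.hom.left ≫ Datum.lft g) ≫ c i) :=
      Over.homMk (𝟙 g'.obj.left) (by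
        change 𝟙 _ ≫ (m.hom.left ≫ Datum.lft g) ≫ c i = Datum.lft g' ≫ c (Datum.idx g')
        rw [Category.id_comp, Category.assoc, Datum.lft_c, Datum.lft_c]
        exact Over.w m.hom)
    have h1 : m.hom ≫ up g = up g' ≫ k ≫ (FibLib.overMap (c i)).map n := Over.OverMorphism.ext (by
      change m.hom.left ≫ 𝟙 _ = 𝟙 _ ≫ 𝟙 _ ≫ m.hom.left
      simp)
    have h2 : k ≫ (FibLib.overMap (c i)).map n ≫ dn g = dn g' ≫ m.hom := Over.OverMorphism.ext (by
      change 𝟙 _ ≫ m.hom.left ≫ 𝟙 _ = 𝟙 _ ≫ m.hom.left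
      simp)
    have hn : K.map ((FibLib.overMap (c i)).map n) ≫ (ψ i).toNatTrans.app (Over.mk (Datum.lft g)) =
        (ψ i).toNatTrans.app (Over.mk (m.hom.left ≫ Datum.lft g)) ≫ K'.map ((FibLib.overMap (c i)).map n) :=
      (ψ i).toNatTrans.naturality n
    have hc : (Datum.lft g' ≫ c (Datum.idx g')) = (m.hom.left ≫ Datum.lft g) ≫ c i := Datum.lft_cond m
    simp only [app]
    rw [← Category.assoc, ← K.toFunctor.map_comp, h1, K.toFunctor.map_comp, K.toFunctor.map_comp]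
    simp only [Category.assoc]
    rw [reassoc_of% hn, reassoc_of% (hψ _ _ hc k rfl)]
    rw [← K'.toFunctor.map_comp, ← K'.toFunctor.map_comp, h2, K'.toFunctor.map_comp]
  let α : (Stk.resSieve (famSieve c) 𝒳).obj K ⟶ (Stk.resSieve (famSieve c) 𝒳).obj K' :=
    { toNatTrans := { app := app, naturality := fun g' g m => nat m }
      isHomLift' := lift }
  obtain ⟨β, hβ⟩ := (Stk.resSieve (famSieve c) 𝒳).map_surjective α
  refine ⟨β, fun i o => ?_⟩
  let g : (Stk.sieveCat (famSieve c)).obj := ⟨Over.mk (o.hom ≫ c i), i, o.hom, rfl⟩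
  have hg : β.toNatTrans.app g.obj = app g := congrArg (fun t => t.toNatTrans.app g) hβ
  let k : Over.mk (o.hom ≫ c i) ⟶ Over.mk (Datum.lft g ≫ c (Datum.idx g)) :=
    Over.homMk (𝟙 o.left) (by
      change 𝟙 _ ≫ Datum.lft g ≫ c (Datum.idx g) = o.hom ≫ c i
      rw [Category.id_comp, Datum.lft_c]
      rfl)
  show β.toNatTrans.app g.obj = (ψ i).toNatTrans.app o
  rw [hg]
  have h1 : up g = k := Over.OverMorphism.ext rfl
  have h2 : k ≫ dn g = 𝟙 _ := Over.OverMorphism.ext (Category.id_comp _)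
  simp only [app]
  rw [h1, reassoc_of% (hψ o.hom (Datum.lft g) (Datum.lft_c g).symm k rfl)]
  refine (congrArg (fun t => _ ≫ t) (K'.toFunctor.map_comp _ _).symm).trans ?_
  rw [h2]
  refine (congrArg (fun t => _ ≫ t) (K'.toFunctor.map_id _)).trans ?_
  exact Category.comp_id _

/-- Morphisms agreeing on the members are equal. -/
theorem hom_ext_of_local (h : Stk.IsPrestackFor (famSieve c) 𝒳) {K K' : overCat Z ⥤ᵇ 𝒳} {α β : K ⟶ K'}
    (hc : ∀ (i : ι) (o : Over (W i)),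
      α.toNatTrans.app ((FibLib.overMap (c i)).obj o) = β.toNatTrans.app ((FibLib.overMap (c i)).obj o)) :
    α = β := by
  haveI := h.2
  refine (Stk.resSieve (famSieve c) 𝒳).map_injective (AlgStLib.bnt_ext fun g => ?_)
  change α.toNatTrans.app g.obj = β.toNatTrans.app g.obj
  obtain ⟨o, hg⟩ := g
  obtain ⟨T, f, rfl⟩ := o.mk_surjective
  obtain ⟨i, (w : T ⟶ W i), (e : w ≫ c i = f)⟩ := hg
  change α.toNatTrans.app (Over.mk f) = β.toNatTrans.app (Over.mk f)
  subst e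
  exact hc i (Over.mk w)

end StackSecLib
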