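import Groth.Agent.StackSecLib.Global

/-!
# Points over Henselian local rings on smooth charts
-/

set_option autoImplicit false
set_option backward.isDefEq.respectTransparency false
set_option backward.isDefEq.respectTransparency.types false

universe u

open CategoryTheory CategoryTheory.Limits AlgebraicGeometry AlgSp FibCat FibLib AlgSpLib AlgStLib

noncomputable section

namespace StackSecLib

variable {S : Scheme.{u}} {𝒳 : AlgSt.Cat S} [IsFibGrpd 𝒳.p]

/-- Affine smooth charts through which all points over Henselian local rings factor. -/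
theorem exists_henselian_charts (hst : Stk.IsStack (Jet S) 𝒳) (hΔ : AlgSt.RepByAlgSp1 (diag (toSelf 𝒳)))
    {U : Over S} {a : overCat U ⥤ᵇ 𝒳} (hsm : AlgSt.RepByAlgSpWith (LocP @Smooth) a)
    (hsurj : AlgSt.RepByAlgSpWith IsSurjectiveMor a) :
    ∃ (ι : Type u) (Z : ι → Over S) (P : ∀ i, overCat (Z i) ⥤ᵇ 𝒳),
      (∀ i, IsAffine (Z i).left) ∧ (∀ i, AlgSt.RepByAlgSpWith (LocP @Smooth) (P i)) ∧
      (Smooth U.hom → ∀ i, Smooth (Z i).hom) ∧
      ∀ (A : Type u) [CommRing A] [HenselianLocalRing A] (str : Spec (CommRingCat.of A) ⟶ S)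
        (z : overCat (Over.mk str) ⥤ᵇ 𝒳),
        ∃ (i : ι) (g : Over.mk str ⟶ Z i), Nonempty (BasedFunctor.comp (AlgSt.overMap g) (P i) ≅ z) := by
  obtain ⟨ι, Z, P, hZ, hP, hsmZ, hlift⟩ := exists_field_charts hst hΔ hsm hsurj
  refine ⟨ι, Z, P, hZ, hP, hsmZ, fun A _ _ str z => ?_⟩
  let I := IsLocalRing.maximalIdeal A
  letI := Ideal.Quotient.field I
  let Y₀ : Over S := Over.mk (Spec.map (CommRingCat.ofHom (Ideal.Quotient.mk I)) ≫ str)
  let j : Y₀ ⟶ Over.mk str := Over.homMk (Spec.map (CommRingCat.ofHom (Ideal.Quotient.mk I))) rfl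
  obtain ⟨i, g₀, hg₀⟩ := hlift (A ⧸ I) (Spec.map (CommRingCat.ofHom (Ideal.Quotient.mk I)) ≫ str)
    (BasedFunctor.comp (AlgSt.overMap j) z)
  obtain ⟨g, hg⟩ := exists_henselian_lift (hP i) A str z I (IsLocalRing.maximalIdeal.isMaximal A).ne_top
    (Y₀ := Y₀) (j := j) rfl (by simp only [eqToHom_refl, Category.id_comp]; rfl) g₀ hg₀
  exact ⟨i, g, hg⟩

/-- Points over an empty scheme are isomorphic. -/
theorem nonempty_iso_of_isEmpty (hst : Stk.IsStack (Jet S) 𝒳) {T : Over S} [IsEmpty T.left]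
    (K K' : overCat T ⥤ᵇ 𝒳) : Nonempty (K ≅ K') := by
  obtain ⟨β, hβ⟩ := exists_vert_of_isEmpty hst K K'
  let Φ := natTransOfId (preservesStronglyCartesian_of_isFibGrpd K') β
  haveI : IsIso Φ := isIso_bnt Φ
  exact ⟨asIso Φ⟩

end StackSecLib
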