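import Groth.Agent.StackSecLib.Cover
import Groth.Agent.AlgSpLib.FreeAction
import Groth.Agent.AlgSpLib.Bootstrap

/-!
# Objects of a stack on a scheme with a free action of a finite group, up to transport
-/

set_option autoImplicit false
set_option backward.isDefEq.respectTransparency false
set_option backward.isDefEq.respectTransparency.types false

universe u

open CategoryTheory CategoryTheory.Limits AlgebraicGeometry AlgSp FibCat FibLib AlgSpLib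

noncomputable section

namespace StackSecLib

variable {S : Scheme.{u}} {𝒳 : AlgSt.Cat S} [IsFibGrpd 𝒳.p] {U : Over S}

/-- A scheme with a free action, a family of points of `U` indexed by the group and compatible transports. -/
structure TwistAct (a : overCat U ⥤ᵇ 𝒳) : Type (u + 2) where
  /-- the group -/
  G : Type u
  [grp : Group G]
  /-- the scheme -/
  W : Over S
  /-- the action -/
  ρ : G →* Aut W
  free : ∀ (g : G) (x : W.left), g ≠ 1 →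
    W.left.fromSpecResidueField x ≫ (ρ g).hom.left ≠ W.left.fromSpecResidueField x
  /-- the points of `U` -/
  π : G → (W ⟶ U)
  act_π : ∀ g σ, (ρ σ).hom ≫ π g = π (g * σ)
  /-- the transports -/
  θ : ∀ g : G, ∀ {T : Over S} (w : T ⟶ W), a.obj (Over.mk (w ≫ π 1)) ⟶ a.obj (Over.mk (w ≫ π g))
  θ_lift : ∀ g {T : Over S} (w : T ⟶ W), 𝒳.p.IsHomLift (𝟙 T) (θ g w)
  θ_nat : ∀ g {T T' : Over S} (m : T' ⟶ T) (w : T ⟶ W),
    θ g (m ≫ w) ≫ a.map (Over.homMk m (Category.assoc m w (π g)).symm : Over.mk ((m ≫ w) ≫ π g) ⟶ Over.mk (w ≫ π g)) =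
      a.map (Over.homMk m (Category.assoc m w (π 1)).symm : Over.mk ((m ≫ w) ≫ π 1) ⟶ Over.mk (w ≫ π 1)) ≫ θ g w
  θ_mul : ∀ g σ {T : Over S} (w : T ⟶ W) (e₁ : w ≫ π σ = (w ≫ (ρ σ).hom) ≫ π 1)
    (e₂ : (w ≫ (ρ σ).hom) ≫ π g = w ≫ π (g * σ)),
    θ σ w ≫ cs a e₁ ≫ θ g (w ≫ (ρ σ).hom) ≫ cs a e₂ = θ (g * σ) w

attribute [instance] TwistAct.grp

namespace TwistAct

variable {a : overCat U ⥤ᵇ 𝒳} (D : TwistAct a)

/-- The graph of the action. -/
def R : Over S := ∐ fun _ : D.G => D.W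

/-- A component of the graph. -/
def inj (g : D.G) : D.W ⟶ D.R := Sigma.ι (fun _ : D.G => D.W) g

/-- The source. -/
def s : D.R ⟶ D.W := Sigma.desc fun _ => 𝟙 _

/-- The target. -/
def t : D.R ⟶ D.W := Sigma.desc fun g => (D.ρ g).hom

lemma inj_s (g : D.G) : D.inj g ≫ D.s = 𝟙 _ := Sigma.ι_desc _ _

lemma inj_t (g : D.G) : D.inj g ≫ D.t = (D.ρ g).hom := Sigma.ι_desc _ _

/-- The coproduct cofan. -/
def isColimit : IsColimit (Cofan.mk D.R D.inj) := coproductIsCoproduct _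

lemma isEtaleEqvRel : IsEtaleEqvRel D.s D.t :=
  FreeAct.isEtaleEqvRel (U := D.W) (c := Cofan.mk D.R D.inj) D.isColimit D.ρ D.inj_s D.inj_t D.free

lemma rel_ext {T : Over S} {r r' : T ⟶ D.R} (h₁ : r ≫ D.t = r' ≫ D.t) (h₂ : r ≫ D.s = r' ≫ D.s) : r = r' :=
  D.isEtaleEqvRel.injective T r r' h₁ h₂

lemma exists_decomp {T : Over S} (r : T ⟶ D.R) :
    ∃ (𝒰 : Scheme.OpenCover.{u} T.left) (lbl : 𝒰.I₀ → D.G) (w : ∀ i, Over.mk (𝒰.f i ≫ T.hom) ⟶ D.W),
      ∀ i, (Over.homMk (𝒰.f i) rfl : Over.mk (𝒰.f i ≫ T.hom) ⟶ T) ≫ r = w i ≫ D.inj (lbl i) :=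
  FreeAct.exists_decomp (c := Cofan.mk D.R D.inj) r D.isColimit

lemma label_eq {T : Over S} (w w' : T ⟶ D.W) {g g' : D.G} (e : w ≫ D.inj g = w' ≫ D.inj g') :
    w = w' ∧ (IsEmpty T.left ∨ g = g') := by
  have h : w = w' := by
    simpa [Category.assoc, inj_s] using congrArg (fun m => m ≫ D.s) e
  subst h
  refine ⟨rfl, ?_⟩
  rcases isEmpty_or_nonempty T.left with hT | ⟨⟨x⟩⟩
  · exact Or.inl hT
  · refine Or.inr (FreeAct.eq_of_comp_eq D.ρ D.free x w g g' ?_)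
    simpa [Category.assoc, inj_t] using congrArg (fun m => m ≫ D.t) e

lemma θ_nat' (g : D.G) {T T' : Over S} {m : T' ⟶ T} {w : T ⟶ D.W} {w' : T' ⟶ D.W} (hw : m ≫ w = w')
    (k₁ : Over.mk (w' ≫ D.π 1) ⟶ Over.mk (w ≫ D.π 1)) (k₂ : Over.mk (w' ≫ D.π g) ⟶ Over.mk (w ≫ D.π g))
    (h₁ : k₁.left = m) (h₂ : k₂.left = m) : D.θ g w' ≫ a.map k₂ = a.map k₁ ≫ D.θ g w := by
  subst hw
  rw [show k₁ = Over.homMk m (Category.assoc m w (D.π 1)).symm from Over.OverMorphism.ext h₁,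
    show k₂ = Over.homMk m (Category.assoc m w (D.π g)).symm from Over.OverMorphism.ext h₂]
  exact D.θ_nat g m w

/-- The quotient algebraic space. -/
def Q : Sp S := QuotSh.quot Scheme.fppfPrecoverage D.s D.t

/-- The quotient map. -/
def qπ : (yon S).obj D.W ⟶ D.Q := AlgSpLib.qπ D.s D.t

lemma isPresentation : IsPresentation D.s D.t D.qπ := AlgSpLib.isPresentation_qπ D.s D.t D.isEtaleEqvRel

lemma isAlgSpace_Q : IsAlgSpace D.Q :=
  AlgSpLib.isAlgSpace_quot D.s D.t D.isEtaleEqvRel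

lemma exists_rel {T : Over S} (w w' : T ⟶ D.W) (e : (yon S).map w ≫ D.qπ = (yon S).map w' ≫ D.qπ) :
    ∃ r : T ⟶ D.R, r ≫ D.s = w ∧ r ≫ D.t = w' := by
  obtain ⟨r, hr⟩ := (yon S).map_surjective (D.isPresentation.isPullback.lift _ _ e.symm)
  refine ⟨r, (yon S).map_injective ?_, (yon S).map_injective ?_⟩
  · rw [Functor.map_comp, hr, IsPullback.lift_snd]
  · rw [Functor.map_comp, hr, IsPullback.lift_fst]

variable (hst : Stk.IsStack (Jet S) 𝒳)
include hst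

omit [IsFibGrpd 𝒳.p] in
lemma prestack : Stk.IsPrestack (Jet S) 𝒳 := AlgStLib.isPrestack_of_isStack hst

lemma inj_mem : famSieve D.inj ∈ Jet S D.R :=
  famSieve_mem D.inj (fun g => by
    haveI : IsOpenImmersion (D.inj g).left :=
      (FreeAct.cover (c := Cofan.mk D.R D.inj) D.isColimit).map_prop g
    infer_instance) fun z => by
    obtain ⟨i, y, hy⟩ := (FreeAct.cover (c := Cofan.mk D.R D.inj) D.isColimit).exists_eq z
    exact ⟨i, y, hy⟩

lemma exists_univ : ∃ Θ : BasedFunctor.comp (AlgSt.overMap (D.s ≫ D.π 1)) a ⟶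
      BasedFunctor.comp (AlgSt.overMap (D.t ≫ D.π 1)) a,
    ∀ (g : D.G) {T : Over S} (w : T ⟶ D.W) (e₁ : w ≫ D.π 1 = (w ≫ D.inj g) ≫ D.s ≫ D.π 1)
      (e₂ : (w ≫ D.inj g) ≫ D.t ≫ D.π 1 = w ≫ D.π g),
      cs a e₁ ≫ Θ.toNatTrans.app (Over.mk (w ≫ D.inj g)) ≫ cs a e₂ = D.θ g w := by
  have es : ∀ (g : D.G) {T : Over S} (w : T ⟶ D.W), (w ≫ D.inj g) ≫ D.s ≫ D.π 1 = w ≫ D.π 1 := fun g T w => by
    rw [Category.assoc, ← Category.assoc (D.inj g), D.inj_s, Category.id_comp]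
  have et : ∀ (g : D.G) {T : Over S} (w : T ⟶ D.W), w ≫ D.π g = (w ≫ D.inj g) ≫ D.t ≫ D.π 1 := fun g T w => by
    rw [Category.assoc, ← Category.assoc (D.inj g), D.inj_t, D.act_π, one_mul]
  let ψ : ∀ g, BasedFunctor.comp (FibLib.overMap (D.inj g)) (BasedFunctor.comp (AlgSt.overMap (D.s ≫ D.π 1)) a) ⟶
      BasedFunctor.comp (FibLib.overMap (D.inj g)) (BasedFunctor.comp (AlgSt.overMap (D.t ≫ D.π 1)) a) := fun g =>
    { toNatTrans :=
        { app := fun o => cs a (es g o.hom) ≫ D.θ g o.hom ≫ cs a (et g o.hom)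
          naturality := fun o' o k => by
            obtain ⟨T', w', rfl⟩ := o'.mk_surjective
            obtain ⟨T, w, rfl⟩ := o.mk_surjective
            have hw : k.left ≫ w = w' := Over.w k
            let k₁ : Over.mk (w' ≫ D.π 1) ⟶ Over.mk (w ≫ D.π 1) :=
              Over.homMk k.left ((Category.assoc _ _ _).symm.trans (congrArg (fun q => q ≫ D.π 1) hw))
            let k₂ : Over.mk (w' ≫ D.π g) ⟶ Over.mk (w ≫ D.π g) :=
              Over.homMk k.left ((Category.assoc _ _ _).symm.trans (congrArg (fun q => q ≫ D.π g) hw))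
            change a.map _ ≫ cs a (es g w) ≫ D.θ g w ≫ cs a (et g w) =
              (cs a (es g w') ≫ D.θ g w' ≫ cs a (et g w')) ≫ a.map _
            simp only [Category.assoc]
            rw [map_cs_assoc a k.left (es g w) (es g w') _ k₁ rfl rfl,
              ← reassoc_of% D.θ_nat' g hw k₁ k₂ rfl rfl,
              map_cs a k.left (et g w) (et g w') k₂
                ((AlgSt.overMap (D.t ≫ D.π 1)).map ((FibLib.overMap (D.inj g)).map k)) rfl rfl] }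
      isHomLift' := fun o => GerbeLib.isHomLift_id_comp _ _ _ _ (cs_lift a _)
        (GerbeLib.isHomLift_id_comp _ _ _ _ (D.θ_lift g o.hom) (cs_lift a _)) }
  obtain ⟨Θ, hΘ⟩ := exists_hom_of_local ((prestack hst).2 _ (D.inj_mem hst)) _ _ ψ
    fun {T i j} w w' e k hk => by
      obtain ⟨rfl, h⟩ := D.label_eq w w' e
      rcases h with hT | rfl
      · haveI := hT
        refine eq_of_isEmpty (T := T) (prestack hst) _ _ ?_ ?_
        · exact GerbeLib.isHomLift_id_comp _ _ _ _ (hk ▸ lift_map _ k) ((ψ j).isHomLift' (Over.mk w))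
        · exact GerbeLib.isHomLift_id_comp _ _ _ _ ((ψ i).isHomLift' (Over.mk w)) (hk ▸ lift_map _ k)
      · obtain rfl : k = 𝟙 _ := Over.OverMorphism.ext hk
        refine (congrArg (fun q => q ≫ _) (CategoryTheory.Functor.map_id _ _)).trans
          (Eq.trans ?_ (congrArg (fun q => _ ≫ q) (CategoryTheory.Functor.map_id _ _)).symm)
        exact (Category.id_comp _).trans (Category.comp_id _).symm
  refine ⟨Θ, fun g {T} w e₁ e₂ => ?_⟩
  have h := hΘ g (Over.mk w)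
  change Θ.toNatTrans.app (Over.mk (w ≫ D.inj g)) = cs a (es g w) ≫ D.θ g w ≫ cs a (et g w) at h
  rw [h]
  simp only [Category.assoc, cs_cs, cs_cs_assoc, cs_refl, Category.comp_id]
  exact Category.id_comp _

/-- The universal transport. -/
def univ : BasedFunctor.comp (AlgSt.overMap (D.s ≫ D.π 1)) a ⟶
    BasedFunctor.comp (AlgSt.overMap (D.t ≫ D.π 1)) a := (D.exists_univ hst).choose

lemma univ_inj (g : D.G) {T : Over S} (w : T ⟶ D.W) (e₁ : w ≫ D.π 1 = (w ≫ D.inj g) ≫ D.s ≫ D.π 1)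
    (e₂ : (w ≫ D.inj g) ≫ D.t ≫ D.π 1 = w ≫ D.π g) :
    cs a e₁ ≫ (D.univ hst).toNatTrans.app (Over.mk (w ≫ D.inj g)) ≫ cs a e₂ = D.θ g w :=
  (D.exists_univ hst).choose_spec g w e₁ e₂

/-- The transport between two related points. -/
def trans {T : Over S} {x y : T ⟶ U} (r : T ⟶ D.R) (ex : x = r ≫ D.s ≫ D.π 1) (ey : r ≫ D.t ≫ D.π 1 = y) :
    a.obj (Over.mk x) ⟶ a.obj (Over.mk y) :=
  cs a ex ≫ (D.univ hst).toNatTrans.app (Over.mk r) ≫ cs a ey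

lemma trans_lift {T : Over S} {x y : T ⟶ U} (r : T ⟶ D.R) (ex : x = r ≫ D.s ≫ D.π 1)
    (ey : r ≫ D.t ≫ D.π 1 = y) : 𝒳.p.IsHomLift (𝟙 T) (D.trans hst r ex ey) :=
  GerbeLib.isHomLift_id_comp _ _ _ _ (cs_lift a _)
    (GerbeLib.isHomLift_id_comp _ _ _ _ ((D.univ hst).isHomLift' (Over.mk r)) (cs_lift a _))

lemma trans_nat {T T' : Over S} (m : T' ⟶ T) {x y : T ⟶ U} {x' y' : T' ⟶ U} {r : T ⟶ D.R} {r' : T' ⟶ D.R}
    (hr : m ≫ r = r') (ex : x = r ≫ D.s ≫ D.π 1) (ey : r ≫ D.t ≫ D.π 1 = y)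
    (ex' : x' = r' ≫ D.s ≫ D.π 1) (ey' : r' ≫ D.t ≫ D.π 1 = y')
    (k : Over.mk x' ⟶ Over.mk x) (k' : Over.mk y' ⟶ Over.mk y) (hk : k.left = m) (hk' : k'.left = m) :
    D.trans hst r' ex' ey' ≫ a.map k' = a.map k ≫ D.trans hst r ex ey := by
  subst hr
  let n : Over.mk (m ≫ r) ⟶ Over.mk r := Over.homMk m rfl
  have hn : a.map ((AlgSt.overMap (D.s ≫ D.π 1)).map n) ≫ (D.univ hst).toNatTrans.app (Over.mk r) =
      (D.univ hst).toNatTrans.app (Over.mk (m ≫ r)) ≫ a.map ((AlgSt.overMap (D.t ≫ D.π 1)).map n) :=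
    (D.univ hst).toNatTrans.naturality n
  simp only [trans, Category.assoc]
  rw [← map_cs a m ey ey' ((AlgSt.overMap (D.t ≫ D.π 1)).map n) k' rfl hk', ← reassoc_of% hn,
    map_cs_assoc a m ex ex' k ((AlgSt.overMap (D.s ≫ D.π 1)).map n) hk rfl]

lemma trans_inj (g : D.G) {T : Over S} (w : T ⟶ D.W) {x y : T ⟶ U} {r : T ⟶ D.R} (hr : r = w ≫ D.inj g)
    (ex : x = r ≫ D.s ≫ D.π 1) (ey : r ≫ D.t ≫ D.π 1 = y) (ex' : x = w ≫ D.π 1) (ey' : w ≫ D.π g = y) :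
    D.trans hst r ex ey = cs a ex' ≫ D.θ g w ≫ cs a ey' := by
  subst hr
  rw [← D.univ_inj hst g w (ex'.symm.trans ex) (ey.trans ey'.symm)]
  simp only [trans, Category.assoc, cs_cs, cs_cs_assoc]

lemma trans_comp {T : Over S} {x y z : T ⟶ U} (r₁ r₂ r₃ : T ⟶ D.R) (h₁₂ : r₁ ≫ D.t = r₂ ≫ D.s)
    (hs : r₃ ≫ D.s = r₁ ≫ D.s) (ht : r₃ ≫ D.t = r₂ ≫ D.t) (ex₁ : x = r₁ ≫ D.s ≫ D.π 1)
    (ey₁ : r₁ ≫ D.t ≫ D.π 1 = y) (ex₂ : y = r₂ ≫ D.s ≫ D.π 1) (ey₂ : r₂ ≫ D.t ≫ D.π 1 = z)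
    (ex₃ : x = r₃ ≫ D.s ≫ D.π 1) (ey₃ : r₃ ≫ D.t ≫ D.π 1 = z) :
    D.trans hst r₁ ex₁ ey₁ ≫ D.trans hst r₂ ex₂ ey₂ = D.trans hst r₃ ex₃ ey₃ := by
  obtain ⟨𝒰, lbl, w, hw⟩ := D.exists_decomp r₁
  choose 𝒱 lbl' v hv using fun i => D.exists_decomp
    ((Over.homMk (𝒰.f i) rfl : Over.mk (𝒰.f i ≫ T.hom) ⟶ T) ≫ r₂)
  let 𝒲 : Scheme.OpenCover.{u} T.left := 𝒰.bind fun i => 𝒱 i
  refine StkTopLib.vert_ext (prestack hst) (ha := GerbeLib.isHomLift_id_comp _ _ _ _ (D.trans_lift hst r₁ ex₁ ey₁)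
    (D.trans_lift hst r₂ ex₂ ey₂)) (hb := D.trans_lift hst r₃ ex₃ ey₃) _ _ (openCover_mem 𝒲) ?_
  rintro V f ⟨⟨i, j⟩, p, rfl⟩
  let m₁ : Over.mk (𝒰.f i ≫ T.hom) ⟶ T := Over.homMk (𝒰.f i) rfl
  let m₂ : Over.mk ((𝒱 i).f j ≫ 𝒰.f i ≫ T.hom) ⟶ Over.mk (𝒰.f i ≫ T.hom) := Over.homMk ((𝒱 i).f j) rfl
  let m : V ⟶ T := p ≫ (Over.homMk (𝒲.f ⟨i, j⟩) rfl : Over.mk (𝒲.f ⟨i, j⟩ ≫ T.hom) ⟶ T)
  let p' : V ⟶ Over.mk ((𝒱 i).f j ≫ 𝒰.f i ≫ T.hom) :=
    Over.homMk p.left ((congrArg (p.left ≫ ·) (Category.assoc _ _ _).symm).trans (Over.w p))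
  have hm : m = p' ≫ m₂ ≫ m₁ := Over.OverMorphism.ext rfl
  let u : V ⟶ D.W := p' ≫ m₂ ≫ w i
  let u' : V ⟶ D.W := p' ≫ v i j
  have h1 : m ≫ r₁ = u ≫ D.inj (lbl i) := by
    rw [hm, Category.assoc, Category.assoc, hw i]
    simp only [u, Category.assoc]
  have h2 : m ≫ r₂ = u' ≫ D.inj (lbl' i j) := by
    rw [hm, Category.assoc, Category.assoc]
    exact (congrArg (p' ≫ ·) (hv i j)).trans (Category.assoc _ _ _).symm
  clear_value u u'
  have hu : u' = u ≫ (D.ρ (lbl i)).hom := by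
    have := congrArg (fun q => m ≫ q) h₁₂
    simp only [← Category.assoc, h1, h2] at this
    simpa [inj_s, inj_t] using this.symm
  have h3 : m ≫ r₃ = u ≫ D.inj (lbl' i j * lbl i) := by
    refine D.rel_ext ?_ ?_
    · rw [Category.assoc, ht, ← Category.assoc, h2]
      simp only [Category.assoc, inj_t, hu, FreeAct.hom_mul D.ρ]
    · rw [Category.assoc, hs, ← Category.assoc, h1]
      simp only [Category.assoc, inj_s]
  refine ⟨a.obj (Over.mk (m ≫ x)), a.map (Over.homMk m rfl : Over.mk (m ≫ x) ⟶ Over.mk x),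
    lift_map a (Over.homMk m rfl : Over.mk (m ≫ x) ⟶ Over.mk x), ?_⟩
  rw [← reassoc_of% D.trans_nat hst m rfl ex₁ ey₁ (by rw [ex₁, ← Category.assoc m]) (by rw [Category.assoc, ey₁])
      (Over.homMk m rfl : Over.mk (m ≫ x) ⟶ Over.mk x) (Over.homMk m rfl : Over.mk (m ≫ y) ⟶ Over.mk y) rfl rfl,
    ← D.trans_nat hst m rfl ex₂ ey₂ (by rw [ex₂, ← Category.assoc m]) (by rw [Category.assoc, ey₂])
      (Over.homMk m rfl : Over.mk (m ≫ y) ⟶ Over.mk y) (Over.homMk m rfl : Over.mk (m ≫ z) ⟶ Over.mk z) rfl rfl,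
    ← D.trans_nat hst m rfl ex₃ ey₃ (by rw [ex₃, ← Category.assoc m]) (by rw [Category.assoc, ey₃])
      (Over.homMk m rfl : Over.mk (m ≫ x) ⟶ Over.mk x) (Over.homMk m rfl : Over.mk (m ≫ z) ⟶ Over.mk z) rfl rfl,
    ← Category.assoc]
  congr 1
  have ex : m ≫ x = u ≫ D.π 1 := by
    rw [ex₁, ← Category.assoc, h1, Category.assoc, ← Category.assoc (D.inj _), inj_s, Category.id_comp]
  have ey : u ≫ D.π (lbl i) = m ≫ y := by
    rw [← ey₁, ← Category.assoc m, h1, Category.assoc, ← Category.assoc (D.inj _), inj_t, D.act_π, one_mul]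
  have ey' : m ≫ y = u' ≫ D.π 1 := by rw [← ey, hu, Category.assoc, D.act_π, one_mul]
  have ez : u' ≫ D.π (lbl' i j) = m ≫ z := by
    rw [← ey₂, ← Category.assoc m, h2, Category.assoc, ← Category.assoc (D.inj _), inj_t, D.act_π, one_mul]
  have ez' : u ≫ D.π (lbl' i j * lbl i) = m ≫ z := by rw [← ez, hu, Category.assoc, D.act_π]
  rw [D.trans_inj hst _ u h1 _ _ ex ey, D.trans_inj hst _ u' h2 _ _ ey' ez, D.trans_inj hst _ u h3 _ _ ex ez']
  subst hu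
  rw [← D.θ_mul (lbl' i j) (lbl i) u (ey.trans ey') (by rw [Category.assoc, D.act_π])]
  simp only [Category.assoc, cs_cs, cs_cs_assoc]

lemma trans_congr {T : Over S} {x y : T ⟶ U} {r r' : T ⟶ D.R} (h : r = r')
    (ex : x = r ≫ D.s ≫ D.π 1) (ey : r ≫ D.t ≫ D.π 1 = y) (ex' : x = r' ≫ D.s ≫ D.π 1)
    (ey' : r' ≫ D.t ≫ D.π 1 = y) : D.trans hst r ex ey = D.trans hst r' ex' ey' := by
  subst h; rfl

/-- The descent datum on a family of schemes over the quotient. -/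
def datum {Z : Over S} (z : (yon S).obj Z ⟶ D.Q) {ι : Type u} {V : ι → Over S}
    (c : ∀ i, V i ⟶ Z) (f : ∀ i, V i ⟶ D.W) (hf : ∀ i, (yon S).map (f i) ≫ D.qπ = (yon S).map (c i) ≫ z) :
    Datum 𝒳 c :=
  have ex : ∀ {T : Over S} {i j : ι} (w : T ⟶ V i) (w' : T ⟶ V j), w ≫ c i = w' ≫ c j →
      ∃ r : T ⟶ D.R, r ≫ D.s = w ≫ f i ∧ r ≫ D.t = w' ≫ f j := fun {T i j} w w' e => by
    refine D.exists_rel _ _ ?_
    rw [Functor.map_comp, Category.assoc, hf, ← Functor.map_comp_assoc, e, Functor.map_comp_assoc, ← hf,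
      ← Functor.map_comp_assoc]
  { X := fun i => BasedFunctor.comp (AlgSt.overMap (f i ≫ D.π 1)) a
    φ := fun {T i j} w w' e => D.trans hst (ex w w' e).choose
      (by rw [← Category.assoc (ex w w' e).choose, (ex w w' e).choose_spec.1, Category.assoc]; rfl)
      (by rw [← Category.assoc, (ex w w' e).choose_spec.2, Category.assoc]; rfl)
    φ_lift := fun {T i j} w w' e => D.trans_lift hst _ _ _
    φ_nat := fun {T T' i j} m w w' e => by
      refine D.trans_nat hst m ?_ _ _ _ _ _ _ rfl rfl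
      refine D.rel_ext ?_ ?_
      · rw [Category.assoc, (ex w w' e).choose_spec.2,
          (ex (m ≫ w) (m ≫ w') (by rw [Category.assoc, e, ← Category.assoc])).choose_spec.2, Category.assoc]
      · rw [Category.assoc, (ex w w' e).choose_spec.1,
          (ex (m ≫ w) (m ≫ w') (by rw [Category.assoc, e, ← Category.assoc])).choose_spec.1, Category.assoc]
    φ_trans := fun {T i j k} w w' w'' e e' => by
      refine D.trans_comp hst _ _ _ ?_ ?_ ?_ _ _ _ _ _ _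
      · rw [(ex w w' e).choose_spec.2, (ex w' w'' e').choose_spec.1]
      · rw [(ex w w'' (e.trans e')).choose_spec.1, (ex w w' e).choose_spec.1]
      · rw [(ex w w'' (e.trans e')).choose_spec.2, (ex w' w'' e').choose_spec.2] }

/-- The transition maps of the datum at related points. -/
lemma datum_φ {Z : Over S} (z : (yon S).obj Z ⟶ D.Q) {ι : Type u} {V : ι → Over S}
    (c : ∀ i, V i ⟶ Z) (f : ∀ i, V i ⟶ D.W) (hf : ∀ i, (yon S).map (f i) ≫ D.qπ = (yon S).map (c i) ≫ z)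
    {T : Over S} {i j : ι} (w : T ⟶ V i) (w' : T ⟶ V j) (e : w ≫ c i = w' ≫ c j) (g : D.G) (u : T ⟶ D.W)
    (hu : u = w ≫ f i) (hu' : u ≫ (D.ρ g).hom = w' ≫ f j) (e₁ : w ≫ f i ≫ D.π 1 = u ≫ D.π 1)
    (e₂ : u ≫ D.π g = w' ≫ f j ≫ D.π 1) :
    (D.datum hst z c f hf).φ w w' e = cs a e₁ ≫ D.θ g u ≫ cs a e₂ := by
  refine D.trans_inj hst g u ?_ _ _ e₁ e₂
  generalize_proofs h
  refine D.rel_ext ?_ ?_
  · rw [h.choose_spec.2, Category.assoc, inj_t, hu']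
  · rw [h.choose_spec.1, Category.assoc, inj_s, Category.comp_id, hu]

end TwistAct

end StackSecLib
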