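import Groth.Agent.StackSecLib.OrbitHom
import Groth.Agent.StackSecLib.Orbit
import Groth.Agent.AlgStLib.Rows5
import Groth.Agent.AlgStLib.PointsQc
import Groth.Agent.AlgStLib.LocQ6
import Groth.Agent.AlgSpLib.Descend
import Mathlib.AlgebraicGeometry.Morphisms.LocalFlatDescent

/-!
# The smooth chart on a chart of the quotient of a free action with transports
-/

set_option autoImplicit false
set_option backward.isDefEq.respectTransparency false
set_option backward.isDefEq.respectTransparency.types false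

universe u

open CategoryTheory CategoryTheory.Limits AlgebraicGeometry AlgSp FibCat FibLib AlgSpLib AlgStLib
open CategoryTheory.Functor (IsStronglyCartesian)

noncomputable section

namespace StackSecLib

variable {S : Scheme.{u}} {𝒳 : AlgSt.Cat S} [IsFibGrpd 𝒳.p] {U : Over S} {a : overCat U ⥤ᵇ 𝒳}

lemma isLocalOnBase_fppf_smooth :
    IsLocalOnBase IsFppfCover (LocP @Smooth : MorphismProperty (Sp S)) :=
  isLocalOnBase_fppf_of_fpqc (isLocalOnBase_fpqc_locP_of_descendsAlong S @Smooth)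

namespace TwistAct

variable (D : TwistAct a) (hst : Stk.IsStack (Jet S) 𝒳)
include hst

/-- Objects on schemes over the quotient, with the descended points. -/
theorem exists_chart (hΔ : AlgSt.RepByAlgSp1 (diag (toSelf 𝒳)))
    (hsm : AlgSt.RepByAlgSpWith (LocP @Smooth) a) (hπ : Smooth (D.π 1).left)
    {Z : Over S} (q : (yon S).obj Z ⟶ D.Q) (hq : RepWith @Etale q) :
    ∃ P : overCat Z ⥤ᵇ 𝒳, AlgSt.RepByAlgSpWith (LocP @Smooth) P ∧
      ∀ {Y TL : Over S} (ι : TL ⟶ Y) [Etale ι.left] [Surjective ι.left] (x : overCat Y ⥤ᵇ 𝒳)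
        (σ : D.G → (TL ⟶ TL)), (∀ g, σ g ≫ ι = ι) →
        (∀ (K : Type u) [Field K] [IsAlgClosed K] (a b : Spec (CommRingCat.of K) ⟶ TL.left),
          a ≫ ι.left = b ≫ ι.left → ∃ g, a ≫ (σ g).left = b) →
        ∀ (l : TL ⟶ D.W), (∀ g, σ g ≫ l = l ≫ (D.ρ g).hom) →
        ∀ (α : a.obj (Over.mk (l ≫ D.π 1)) ⟶ x.obj (Over.mk ι)), 𝒳.p.IsHomLift (𝟙 TL) α →
        (∀ g (m : Over.mk (l ≫ D.π g) ⟶ Over.mk (l ≫ D.π 1)) (kx : Over.mk ι ⟶ Over.mk ι),
          m.left = σ g → kx.left = σ g → D.θ g l ≫ a.map m ≫ α = α ≫ x.map kx) →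
        ∀ (g : Y ⟶ Z), (yon S).map ι ≫ (yon S).map g ≫ q = (yon S).map l ≫ D.qπ →
          Nonempty (BasedFunctor.comp (AlgSt.overMap g) P ≅ x) := by
  obtain ⟨O, fst, snd, sq⟩ := exists_isPullback_yon D.qπ q D.isPresentation.etale.rep
  haveI : Etale snd.left := (repWith_yon_map_iff (P := (@Etale : MorphismProperty Scheme.{u})) snd).1
    (repWith_of_isPullback sq D.isPresentation.etale)
  haveI : Surjective snd.left := (repWith_yon_map_iff (P := @Surjective) snd).1
    (repWith_of_isPullback sq D.isPresentation.surjective)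
  let Dt := D.datum hst q (fun _ : PUnit.{u + 1} => snd) (fun _ => fst) fun _ => sq.w
  have hmem : famSieve (fun _ : PUnit.{u + 1} => snd) ∈ Jet S Z :=
    famSieve_mem _ (fun _ => inferInstance) fun z => by
      obtain ⟨t, ht⟩ := snd.left.surjective z
      exact ⟨PUnit.unit, t, ht⟩
  obtain ⟨P, ψ, hψ⟩ := Dt.exists_desc (hst.2 _ hmem)
  refine ⟨P, ?_, fun {Y TL} ι _ _ x σ hσ htr l hl α hα hθ g hg => ?_⟩
  · have hrep : AlgSt.RepByAlgSp1 P := repByAlgSp1_diag_iff.mp hΔ Z P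
    have hx₁ : AlgSt.RepByAlgSpWith IsEtaleMor (AlgSt.overMap snd) :=
      repByAlgSpWith_overMap good_isEtaleMor.bc snd (isEtaleMor_of_repWith
        ((repWith_yon_map_iff (P := (@Etale : MorphismProperty Scheme.{u})) snd).2 inferInstance))
    have hx₂ : AlgSt.RepByAlgSpWith IsSurjectiveMor (AlgSt.overMap snd) :=
      repByAlgSpWith_overMap good_surjective.bc snd
        (map_surjective_of_repWith ((repWith_yon_map_iff (P := @Surjective) snd).2 inferInstance))
    haveI : Smooth (fst ≫ D.π 1).left := by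
      haveI := hπ
      haveI : Etale fst.left := (repWith_yon_map_iff (P := (@Etale : MorphismProperty Scheme.{u})) fst).1
        (repWith_of_isPullback sq.flip hq)
      rw [Over.comp_left]; infer_instance
    have h : AlgSt.RepByAlgSpWith (LocP @Smooth) (BasedFunctor.comp (AlgSt.overMap snd) P) :=
      repByAlgSpWith_congr (ψ PUnit.unit).symm (repByAlgSpWith_comp' (good_locP _)
        (repByAlgSpWith_overMap (good_locP _).bc (fst ≫ D.π 1) ((locP_yon_map_iff _).2 ‹_›)) hsm)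
    exact repByAlgSpWith_of_source_cover isLocalOnBase_fppf_smooth (good_locP _).bc
      (isLocalOnSource_locP S @Smooth) hrep (repByAlgSp1_of_with hx₁)
      (fun H K b hH hK ⟨v, hb⟩ =>
        ⟨fun _ => prop_of_along_space good_isEtaleMor.bc good_isEtaleMor.test hx₁ hH hK hb,
          fun y => ⟨⟨⟩, prop_of_along_space good_surjective.bc good_surjective.test hx₂ hH hK hb y⟩⟩) h
  · let M := sq.lift ((yon S).map l) ((yon S).map (ι ≫ g)) (by rw [Functor.map_comp, Category.assoc, hg])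
    obtain ⟨m, hm⟩ := (yon S).map_surjective M
    have hm₁ : m ≫ fst = l := (yon S).map_injective (by rw [Functor.map_comp, hm]; exact sq.lift_fst _ _ _)
    have hm₂ : m ≫ snd = ι ≫ g := (yon S).map_injective (by rw [Functor.map_comp, hm]; exact sq.lift_snd _ _ _)
    let K : overCat Y ⥤ᵇ 𝒳 := BasedFunctor.comp (AlgSt.overMap g) P
    let c₁ : Over.mk (ι ≫ g) ⟶ Over.mk (m ≫ snd) := Over.homMk (𝟙 TL) ((Category.id_comp _).trans hm₂)
    let ψm : P.obj (Over.mk (m ≫ snd)) ⟶ a.obj (Over.mk (m ≫ fst ≫ D.π 1)) :=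
      (ψ PUnit.unit).hom.toNatTrans.app (Over.mk m)
    have hψm : 𝒳.p.IsHomLift (𝟙 TL) ψm := BasedNatTrans.isHomLift _ rfl
    have e₀ : m ≫ fst ≫ D.π 1 = l ≫ D.π 1 := by rw [← Category.assoc, hm₁]
    let ψ₁ : K.obj (Over.mk ι) ⟶ x.obj (Over.mk ι) := P.map c₁ ≫ ψm ≫ cs a e₀ ≫ α
    have hψ₁ : 𝒳.p.IsHomLift (𝟙 TL) ψ₁ :=
      GerbeLib.isHomLift_id_comp _ _ _ _ (lift_map P c₁) (GerbeLib.isHomLift_id_comp _ _ _ _ hψm
        (GerbeLib.isHomLift_id_comp _ _ _ _ (cs_lift a _) hα))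
    obtain ⟨Φ⟩ := exists_hom_of_orbit hst ι σ hσ htr K x ψ₁ hψ₁ fun γ k hk => by
      let w : TL ⟶ O := σ γ ≫ m
      have ew : m ≫ snd = w ≫ snd := by simp only [w, Category.assoc, hm₂]; rw [← Category.assoc, hσ]
      let k₁ : Over.mk (m ≫ snd) ⟶ Over.mk (w ≫ snd) := Over.homMk (𝟙 TL) ((Category.id_comp _).trans ew.symm)
      let n : Over.mk w ⟶ Over.mk m := Over.homMk (σ γ) rfl
      have h1 : (AlgSt.overMap g).map k ≫ c₁ = c₁ ≫ k₁ ≫ (FibLib.overMap snd).map n := Over.OverMorphism.ext (by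
        change k.left ≫ 𝟙 TL = 𝟙 TL ≫ 𝟙 TL ≫ σ γ
        rw [hk]
        simp only [Category.id_comp]
        exact Category.comp_id (σ γ))
      have e₁ : m ≫ fst ≫ D.π 1 = l ≫ D.π 1 := e₀
      have e₂ : l ≫ D.π γ = w ≫ fst ≫ D.π 1 := by
        simp only [w, Category.assoc]
        rw [e₀, ← Category.assoc, hl, Category.assoc, D.act_π, one_mul]
      have hu' : l ≫ (D.ρ γ).hom = w ≫ fst := by simp only [w, Category.assoc, hm₁, hl]
      have h2 : P.map k₁ ≫ (ψ PUnit.unit).hom.toNatTrans.app (Over.mk w) =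
          ψm ≫ cs a e₁ ≫ D.θ γ l ≫ cs a e₂ := by
        rw [← D.datum_φ hst q (fun _ : PUnit.{u + 1} => snd) (fun _ => fst) (fun _ => sq.w) m w
          (i := PUnit.unit) (j := PUnit.unit) ew γ l hm₁.symm hu' e₁ e₂]
        exact hψ m w ew k₁ rfl
      have h3 : P.map ((FibLib.overMap snd).map n) ≫ ψm =
          (ψ PUnit.unit).hom.toNatTrans.app (Over.mk w) ≫ a.map ((AlgSt.overMap (fst ≫ D.π 1)).map n) :=
        (ψ PUnit.unit).hom.toNatTrans.naturality n
      let mm : Over.mk (l ≫ D.π γ) ⟶ Over.mk (l ≫ D.π 1) := Over.homMk (σ γ) (by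
        change σ γ ≫ l ≫ D.π 1 = l ≫ D.π γ
        rw [← Category.assoc, hl, Category.assoc, D.act_π, one_mul])
      have h4 : cs a e₂ ≫ a.map ((AlgSt.overMap (fst ≫ D.π 1)).map n) ≫ cs a e₀ = a.map mm := by
        rw [cs, cs, ← a.toFunctor.map_comp, ← a.toFunctor.map_comp]
        refine map_congr a ?_
        change 𝟙 TL ≫ σ γ ≫ 𝟙 TL = σ γ
        rw [Category.id_comp, Category.comp_id]
      change P.map ((AlgSt.overMap g).map k) ≫ P.map c₁ ≫ ψm ≫ cs a e₀ ≫ α =
        (P.map c₁ ≫ ψm ≫ cs a e₀ ≫ α) ≫ x.map k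
      rw [← Category.assoc (P.map _) (P.map c₁), ← P.toFunctor.map_comp, congrArg P.map h1, P.toFunctor.map_comp,
        P.toFunctor.map_comp]
      simp only [Category.assoc]
      rw [reassoc_of% h3, reassoc_of% h2, reassoc_of% h4, hθ γ mm k rfl hk]
    haveI : IsIso Φ := isIso_bnt Φ
    exact ⟨asIso Φ⟩

end TwistAct

end StackSecLib
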