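import Groth.Agent.StackSecLib.Cover
import Groth.Agent.IsoNatLib.Elt
import Groth.Agent.MultiSecLib.Global
import Groth.Agent.AlgSpLib.LocP

/-!
# A scheme of isomorphisms between pulled back objects
-/

set_option autoImplicit false
set_option backward.isDefEq.respectTransparency false
set_option backward.isDefEq.respectTransparency.types false

universe u

open CategoryTheory CategoryTheory.Limits AlgebraicGeometry AlgSp FibCat FibLib IsoNatLib AlgSpLib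
open CategoryTheory.Functor (Fiber IsStronglyCartesian)

noncomputable section

namespace StackSecLib

variable {S : Scheme.{u}} {𝒳 : AlgSt.Cat S} [IsFibGrpd 𝒳.p] {U : Over S} (a : overCat U ⥤ᵇ 𝒳)

/-- The chart as an object over `U`. -/
abbrev zU : 𝒳.p.Fiber U := Fiber.mk (p := 𝒳.p) (a := a.obj (Over.mk (𝟙 U))) (a.w_obj _)

/-- The element defined by a vertical morphism between pulled back objects. -/
def el {T : Over S} (x y : T ⟶ U) (β : a.obj (Over.mk y) ⟶ a.obj (Over.mk x))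
    (hβ : 𝒳.p.IsHomLift (𝟙 T) β) : Elt a (zU a) T :=
  ⟨x, Fiber.mk (p := (overCat U).p) (a := Over.mk y) rfl, β ≫ a.map (toId (Over.mk x)),
    GerbeLib.isHomLift_id_comp _ _ _ _ hβ (lift_map a (toId (Over.mk x)))⟩

lemma exists_el {T : Over S} (E : Elt a (zU a) T) :
    ∃ (x y : T ⟶ U) (β : a.obj (Over.mk y) ⟶ a.obj (Over.mk x)) (hβ : 𝒳.p.IsHomLift (𝟙 T) β),
      el a x y β hβ = E := by
  obtain ⟨x, ⟨o, ho⟩, n, hn⟩ := E
  obtain ⟨T', y, rfl⟩ := o.mk_surjective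
  change T' = T at ho
  subst ho
  haveI := hn
  haveI : 𝒳.p.IsHomLift x (a.map (toId (Over.mk x))) := lift_map a (toId (Over.mk x))
  haveI : 𝒳.p.IsStronglyCartesian x (a.map (toId (Over.mk x))) :=
    FibLib.isStronglyCartesian_of_isFibGrpd (p := 𝒳.p) _ _
  let β := IsStronglyCartesian.map 𝒳.p x (a.map (toId (Over.mk x))) (g := 𝟙 T') (f' := x)
    (Category.id_comp _).symm n
  have hβ : 𝒳.p.IsHomLift (𝟙 T') β := IsStronglyCartesian.map_isHomLift 𝒳.p x (a.map (toId (Over.mk x)))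
    (g := 𝟙 T') (f' := x) (Category.id_comp _).symm n
  have hfac : β ≫ a.map (toId (Over.mk x)) = n := IsStronglyCartesian.fac 𝒳.p x (a.map (toId (Over.mk x)))
    (g := 𝟙 T') (f' := x) (Category.id_comp _).symm n
  refine ⟨x, y, β, hβ, ?_⟩
  clear_value β
  subst hfac
  rfl

variable {H : Sp S} {pr : H ⟶ (yon S).obj U} (C : Classifier a (zU a) pr)

/-- The point classifying a vertical morphism. -/
def pt {T : Over S} (x y : T ⟶ U) (β : a.obj (Over.mk y) ⟶ a.obj (Over.mk x))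
    (hβ : 𝒳.p.IsHomLift (𝟙 T) β) : (yon S).obj T ⟶ H := C.cls (el a x y β hβ)

omit [IsFibGrpd 𝒳.p] in
lemma pt_pr {T : Over S} {x y : T ⟶ U} {β : a.obj (Over.mk y) ⟶ a.obj (Over.mk x)}
    (hβ : 𝒳.p.IsHomLift (𝟙 T) β) : pt a C x y β hβ ≫ pr = (yon S).map x :=
  C.cls_comp _

omit [IsFibGrpd 𝒳.p] in
lemma pt_map {T T' : Over S} (m : T' ⟶ T) {x y : T ⟶ U} {x' y' : T' ⟶ U}
    {β : a.obj (Over.mk y) ⟶ a.obj (Over.mk x)} (hβ : 𝒳.p.IsHomLift (𝟙 T) β)
    {β' : a.obj (Over.mk y') ⟶ a.obj (Over.mk x')} (hβ' : 𝒳.p.IsHomLift (𝟙 T') β')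
    (ky : Over.mk y' ⟶ Over.mk y) (hky : ky.left = m) (kx : Over.mk x' ⟶ Over.mk x) (hkx : kx.left = m)
    (e : β' ≫ a.map kx = a.map ky ≫ β) : (yon S).map m ≫ pt a C x y β hβ = pt a C x' y' β' hβ' := by
  refine (C.cls_map (c := m) ⟨ky, ?_, ?_⟩).symm
  · subst hky
    exact IsHomLift.map (overCat U).p ky
  · change a.map ky ≫ β ≫ a.map (toId (Over.mk x)) = β' ≫ a.map (toId (Over.mk x'))
    rw [← Category.assoc, ← e, Category.assoc, ← a.toFunctor.map_comp, comp_toId]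

lemma pt_inj {T : Over S} {x y x' y' : T ⟶ U} {β : a.obj (Over.mk y) ⟶ a.obj (Over.mk x)}
    (hβ : 𝒳.p.IsHomLift (𝟙 T) β) {β' : a.obj (Over.mk y') ⟶ a.obj (Over.mk x')}
    (hβ' : 𝒳.p.IsHomLift (𝟙 T) β') (e : pt a C x y β hβ = pt a C x' y' β' hβ') :
    ∃ (hx : x = x') (hy : y = y'), β ≫ cs a hx = cs a hy ≫ β' := by
  have hx : x = x' := (yon S).map_injective (by rw [← pt_pr a C hβ, e, pt_pr a C hβ'])
  subst hx
  obtain ⟨k, hk, hk'⟩ := C.ehom_of_eq e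
  have h1 : k.left = 𝟙 T := eq_of_lifts (overCat U).p k (IsHomLift.map (overCat U).p k) hk
  have hy : y = y' := by
    have := Over.w k
    rw [h1] at this
    exact this.symm.trans (Category.id_comp _)
  subst hy
  refine ⟨rfl, rfl, ?_⟩
  rw [cs_refl, cs_refl, Category.comp_id, Category.id_comp]
  haveI := hβ; haveI := hβ'
  haveI : 𝒳.p.IsHomLift x (a.map (toId (Over.mk x))) := lift_map a (toId (Over.mk x))
  haveI : 𝒳.p.IsStronglyCartesian x (a.map (toId (Over.mk x))) :=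
    FibLib.isStronglyCartesian_of_isFibGrpd (p := 𝒳.p) _ _
  refine IsStronglyCartesian.ext 𝒳.p x (a.map (toId (Over.mk x))) (𝟙 T) ?_
  change a.map k ≫ β' ≫ a.map (toId (Over.mk x)) = β ≫ a.map (toId (Over.mk x)) at hk'
  rw [← hk', show k = 𝟙 _ from Over.OverMorphism.ext h1]
  exact ((congrArg (fun q => q ≫ _) (a.toFunctor.map_id _)).trans (Category.id_comp _))

lemma exists_pt {T : Over S} (ξ : (yon S).obj T ⟶ H) :
    ∃ (x y : T ⟶ U) (β : a.obj (Over.mk y) ⟶ a.obj (Over.mk x)) (hβ : 𝒳.p.IsHomLift (𝟙 T) β),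
      pt a C x y β hβ = ξ := by
  obtain ⟨E, rfl⟩ := C.exists_elt ξ
  obtain ⟨x, y, β, hβ, rfl⟩ := exists_el a E
  exact ⟨x, y, β, hβ, rfl⟩

omit [IsFibGrpd 𝒳.p] in
lemma pt_congr {T : Over S} {x y x' y' : T ⟶ U} (hx : x = x') (hy : y = y')
    {β : a.obj (Over.mk y) ⟶ a.obj (Over.mk x)} (hβ : 𝒳.p.IsHomLift (𝟙 T) β)
    {β' : a.obj (Over.mk y') ⟶ a.obj (Over.mk x')} (hβ' : 𝒳.p.IsHomLift (𝟙 T) β')
    (e : β ≫ cs a hx = cs a hy ≫ β') : pt a C x y β hβ = pt a C x' y' β' hβ' := by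
  subst hx hy
  rw [cs_refl, cs_refl, Category.comp_id, Category.id_comp] at e
  subst e; rfl

/-- Vertical morphisms pull back. -/
lemma exists_pb {T T' : Over S} (m : T' ⟶ T) {x y : T ⟶ U} {x' y' : T' ⟶ U}
    {β : a.obj (Over.mk y) ⟶ a.obj (Over.mk x)} (hβ : 𝒳.p.IsHomLift (𝟙 T) β)
    (ky : Over.mk y' ⟶ Over.mk y) (hky : ky.left = m) (kx : Over.mk x' ⟶ Over.mk x) (hkx : kx.left = m) :
    ∃ β' : a.obj (Over.mk y') ⟶ a.obj (Over.mk x'),
      𝒳.p.IsHomLift (𝟙 T') β' ∧ β' ≫ a.map kx = a.map ky ≫ β := by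
  subst hkx
  haveI : 𝒳.p.IsHomLift kx.left (a.map kx) := lift_map a kx
  haveI : 𝒳.p.IsStronglyCartesian kx.left (a.map kx) := FibLib.isStronglyCartesian_of_isFibGrpd (p := 𝒳.p) _ _
  haveI : 𝒳.p.IsHomLift kx.left (a.map ky ≫ β) :=
    GerbeLib.isHomLift_comp_id _ _ _ _ (hky ▸ lift_map a ky) hβ
  exact ⟨IsStronglyCartesian.map 𝒳.p kx.left (a.map kx) (g := 𝟙 T') (f' := kx.left) (Category.id_comp _).symm
      (a.map ky ≫ β),
    IsStronglyCartesian.map_isHomLift 𝒳.p kx.left (a.map kx) (g := 𝟙 T') (f' := kx.left) (Category.id_comp _).symm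
      (a.map ky ≫ β),
    IsStronglyCartesian.fac 𝒳.p kx.left (a.map kx) (g := 𝟙 T') (f' := kx.left) (Category.id_comp _).symm
      (a.map ky ≫ β)⟩

/-- Lifts of a map are determined by their composite with a restriction. -/
lemma lift_inj {T T' T'' : Over S} {x : T ⟶ U} {x' : T' ⟶ U} {m : T' ⟶ T} {n : T'' ⟶ T'}
    (kx : Over.mk x' ⟶ Over.mk x) (hkx : kx.left = m) {b : 𝒳.obj} {f f' : b ⟶ a.obj (Over.mk x')}
    (hf : 𝒳.p.IsHomLift n f) (hf' : 𝒳.p.IsHomLift n f') (e : f ≫ a.map kx = f' ≫ a.map kx) : f = f' := by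
  subst hkx
  haveI := hf; haveI := hf'
  haveI : 𝒳.p.IsHomLift kx.left (a.map kx) := lift_map a kx
  haveI : 𝒳.p.IsStronglyCartesian kx.left (a.map kx) := FibLib.isStronglyCartesian_of_isFibGrpd (p := 𝒳.p) _ _
  exact IsStronglyCartesian.ext 𝒳.p kx.left (a.map kx) n e

/-- Vertical morphisms are determined by their composite with a restriction. -/
lemma vert_inj {T T' : Over S} {x : T ⟶ U} {x' : T' ⟶ U} {m : T' ⟶ T} (kx : Over.mk x' ⟶ Over.mk x)
    (hkx : kx.left = m) {b : 𝒳.obj} {f f' : b ⟶ a.obj (Over.mk x')} (hf : 𝒳.p.IsHomLift (𝟙 T') f)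
    (hf' : 𝒳.p.IsHomLift (𝟙 T') f') (e : f ≫ a.map kx = f' ≫ a.map kx) : f = f' := by
  subst hkx
  haveI := hf; haveI := hf'
  haveI : 𝒳.p.IsHomLift kx.left (a.map kx) := lift_map a kx
  haveI : 𝒳.p.IsStronglyCartesian kx.left (a.map kx) := FibLib.isStronglyCartesian_of_isFibGrpd (p := 𝒳.p) _ _
  exact IsStronglyCartesian.ext 𝒳.p kx.left (a.map kx) (𝟙 T') e

end StackSecLib
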