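import Groth.Agent.Unram17Lib.EtaleChartPullback
import Mathlib.AlgebraicGeometry.AffineSpace
import Mathlib.AlgebraicGeometry.Morphisms.Smooth

/-!
# Configurations of distinct values of finitely many functions
-/

set_option autoImplicit false
set_option backward.isDefEq.respectTransparency false
set_option backward.isDefEq.respectTransparency.types false

universe u

open CategoryTheory CategoryTheory.Limits AlgebraicGeometry

noncomputable section

namespace StackSecLib

/-- A function is a unit on the open where it does not vanish. -/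
lemma isUnit_ι_appTop {X : Scheme.{u}} (r : Γ(X, ⊤)) : IsUnit ((X.basicOpen r).ι.appTop r) := by
  rw [Scheme.Opens.ι_appTop]
  have h := RingedSpace.isUnit_res_basicOpen X.toSheafedSpace r
  have := h.map (X.presheaf.map (eqToHom (by simp : (X.basicOpen r).ι ''ᵁ ⊤ = X.basicOpen r)).op).hom
  change IsUnit ((X.presheaf.map _ ≫ X.presheaf.map _) r) at this
  rw [← Functor.map_comp] at this
  exact this

variable (G : Type u) [Finite G] (S : Scheme.{u})

/-- The product of the differences of the coordinates. -/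
def confDisc : Γ(𝔸(G; S), ⊤) :=
  haveI := Fintype.ofFinite G
  haveI := Classical.decEq G
  ∏ p ∈ (Finset.univ : Finset (G × G)).filter (fun p => p.1 ≠ p.2),
    (AffineSpace.coord S p.1 - AffineSpace.coord S p.2)

/-- The configuration scheme. -/
def Conf : Over S := Over.mk ((Scheme.basicOpen (𝔸(G; S)) (confDisc G S)).ι ≫ 𝔸(G; S) ↘ S)

instance : Smooth (Conf G S).hom := by
  haveI : Smooth (𝔸(G; S) ↘ S) := Unram17Lib.smooth_affineSpace_over G S
  show Smooth ((Scheme.basicOpen (𝔸(G; S)) (confDisc G S)).ι ≫ 𝔸(G; S) ↘ S)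
  infer_instance

variable {G S}

/-- The values of a point. -/
def confVal {T : Over S} (f : T ⟶ Conf G S) (g : G) : Γ(T.left, ⊤) :=
  (f.left ≫ (Scheme.basicOpen (𝔸(G; S)) (confDisc G S)).ι).appTop (AffineSpace.coord S g)

lemma confVal_comp {T T' : Over S} (m : T' ⟶ T) (f : T ⟶ Conf G S) (g : G) :
    confVal (m ≫ f) g = m.left.appTop (confVal f g) := by
  simp only [confVal, Over.comp_left, Category.assoc]
  rw [Scheme.Hom.comp_appTop]
  rfl

lemma conf_ext {T : Over S} {f f' : T ⟶ Conf G S} (h : ∀ g, confVal f g = confVal f' g) : f = f' := by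
  refine Over.OverMorphism.ext ((cancel_mono (Scheme.basicOpen (𝔸(G; S)) (confDisc G S)).ι).1 ?_)
  refine AffineSpace.hom_ext ?_ h
  rw [Category.assoc, Category.assoc]
  exact (Over.w f).trans (Over.w f').symm

lemma isUnit_confVal_sub {T : Over S} (f : T ⟶ Conf G S) {g h : G} (hgh : g ≠ h) :
    IsUnit (confVal f g - confVal f h) := by
  haveI := Fintype.ofFinite G
  haveI := Classical.decEq G
  set j := f.left ≫ (Scheme.basicOpen (𝔸(G; S)) (confDisc G S)).ι with hj
  have hu : IsUnit (j.appTop (confDisc G S)) := by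
    rw [hj, Scheme.Hom.comp_appTop]
    refine IsUnit.map f.left.appTop.hom ?_
    exact isUnit_ι_appTop (confDisc G S)
  have hd : confDisc G S = ∏ p ∈ (Finset.univ : Finset (G × G)).filter (fun p => p.1 ≠ p.2),
      (AffineSpace.coord S p.1 - AffineSpace.coord S p.2) := by
    unfold confDisc
    convert rfl
  rw [hd, map_prod, IsUnit.prod_iff] at hu
  have := hu (g, h) (by simp [hgh])
  rwa [map_sub] at this

lemma exists_conf {T : Over S} (v : G → Γ(T.left, ⊤)) (hv : ∀ g h, g ≠ h → IsUnit (v g - v h)) :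
    ∃ f : T ⟶ Conf G S, ∀ g, confVal f g = v g := by
  haveI := Fintype.ofFinite G
  haveI := Classical.decEq G
  let F : T.left ⟶ 𝔸(G; S) := AffineSpace.homOfVector T.hom v
  have hF : ∀ g, F.appTop (AffineSpace.coord S g) = v g := AffineSpace.homOfVector_appTop_coord T.hom v
  have hd : confDisc G S = ∏ p ∈ (Finset.univ : Finset (G × G)).filter (fun p => p.1 ≠ p.2),
      (AffineSpace.coord S p.1 - AffineSpace.coord S p.2) := by
    unfold confDisc
    convert rfl
  have hu : IsUnit (F.appTop (confDisc G S)) := by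
    rw [hd, map_prod, IsUnit.prod_iff]
    intro p hp
    rw [map_sub, hF, hF]
    exact hv _ _ (Finset.mem_filter.1 hp).2
  have hr : Set.range F ⊆ Set.range (Scheme.basicOpen (𝔸(G; S)) (confDisc G S)).ι := by
    rw [Scheme.Opens.range_ι]
    rintro _ ⟨x, rfl⟩
    have : F ⁻¹ᵁ Scheme.basicOpen (𝔸(G; S)) (confDisc G S) = ⊤ := by
      rw [Scheme.preimage_basicOpen_top]
      exact Scheme.basicOpen_of_isUnit _ hu
    exact (show x ∈ F ⁻¹ᵁ Scheme.basicOpen (𝔸(G; S)) (confDisc G S) by rw [this]; trivial)
  let f : T ⟶ Conf G S := Over.homMk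
    (IsOpenImmersion.lift (Scheme.basicOpen (𝔸(G; S)) (confDisc G S)).ι F hr) (by
      show _ ≫ (Scheme.basicOpen (𝔸(G; S)) (confDisc G S)).ι ≫ 𝔸(G; S) ↘ S = T.hom
      rw [IsOpenImmersion.lift_fac_assoc, AffineSpace.homOfVector_over])
  refine ⟨f, fun g => ?_⟩
  show (f.left ≫ _).appTop _ = v g
  simp only [f, Over.homMk_left, IsOpenImmersion.lift_fac]
  exact hF g

end StackSecLib
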