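import Groth.Agent.StackSecLib.Desc
import Groth.Agent.EtDescentLib.Core
import Groth.Agent.StkTopLib.Local
import Groth.Prelude.Def_AlgSt3

/-!
# Étale covering families of schemes over a base and transports along equalities
-/

set_option autoImplicit false
set_option backward.isDefEq.respectTransparency false
set_option backward.isDefEq.respectTransparency.types false

universe u

open CategoryTheory CategoryTheory.Limits AlgebraicGeometry AlgSp FibCat FibLib

noncomputable section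

namespace StackSecLib

variable {S : Scheme.{u}}

/-- The étale topology on schemes over the base. -/
abbrev Jet (S : Scheme.{u}) : GrothendieckTopology (Over S) := QuotSh.J Scheme.etalePrecoverage S

lemma famSieve_mem {Z : Over S} {ι : Type u} {W : ι → Over S} (c : ∀ i, W i ⟶ Z) (het : ∀ i, Etale (c i).left)
    (hs : ∀ z : Z.left, ∃ i w, (c i).left w = z) : famSieve c ∈ Jet S Z :=
  GrothendieckTopology.superset_covering _
    (by rintro T g ⟨_, w, _, ⟨i⟩, rfl⟩; exact ⟨i, w, rfl⟩) (EtDescentLib.ofArrows_mem W c het hs)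

lemma openCover_mem {T : Over S} (𝒰 : Scheme.OpenCover.{u} T.left) :
    famSieve (fun i => (Over.homMk (𝒰.f i) rfl : Over.mk (𝒰.f i ≫ T.hom) ⟶ T)) ∈ Jet S T :=
  famSieve_mem _ (fun i => by
    show Etale (𝒰.f i)
    haveI := 𝒰.map_prop i
    infer_instance) fun z => by
    obtain ⟨i, y, hy⟩ := 𝒰.exists_eq z
    exact ⟨i, y, hy⟩

lemma bot_mem_et {Z : Over S} [IsEmpty Z.left] : (⊥ : Sieve Z) ∈ Jet S Z :=
  GrothendieckTopology.superset_covering _
    (by rintro T g ⟨i, _, _⟩; exact i.elim)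
    (famSieve_mem (fun i : PEmpty.{u + 1} => (i.elim : Z ⟶ Z)) (fun i => i.elim) fun z => isEmptyElim z)

variable {𝒳 : AlgSt.Cat S}

/-- Vertical morphisms over an empty scheme agree. -/
lemma eq_of_isEmpty (h𝒳 : Stk.IsPrestack (Jet S) 𝒳) {T : Over S} [IsEmpty T.left] {t t' : 𝒳.obj} (a b : t ⟶ t')
    (ha : 𝒳.p.IsHomLift (𝟙 T) a) (hb : 𝒳.p.IsHomLift (𝟙 T) b) : a = b :=
  StkTopLib.vert_ext h𝒳 (ha := ha) (hb := hb) a b bot_mem_et fun _ _ h => h.elim

variable [IsFibGrpd 𝒳.p] {U : Over S} (a : overCat U ⥤ᵇ 𝒳)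

/-- Transport along an equality of points. -/
def cs {T : Over S} {u v : T ⟶ U} (e : u = v) : a.obj (Over.mk u) ⟶ a.obj (Over.mk v) :=
  a.map (Over.homMk (𝟙 T) ((Category.id_comp _).trans e.symm))

omit [IsFibGrpd 𝒳.p] in
lemma cs_refl {T : Over S} {u : T ⟶ U} (e : u = u) : cs a e = 𝟙 _ :=
  (congrArg a.map (Over.OverMorphism.ext rfl :
    (Over.homMk (𝟙 T) ((Category.id_comp _).trans e.symm) : Over.mk u ⟶ Over.mk u) = 𝟙 _)).trans
    (a.toFunctor.map_id _)

omit [IsFibGrpd 𝒳.p] in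
@[reassoc (attr := simp)]
lemma cs_cs {T : Over S} {u v w : T ⟶ U} (e : u = v) (e' : v = w) : cs a e ≫ cs a e' = cs a (e.trans e') := by
  subst e e'
  rw [cs_refl, Category.id_comp]

omit [IsFibGrpd 𝒳.p] in
lemma cs_lift {T : Over S} {u v : T ⟶ U} (e : u = v) : 𝒳.p.IsHomLift (𝟙 T) (cs a e) :=
  lift_map a (Over.homMk (𝟙 T) ((Category.id_comp _).trans e.symm) : Over.mk u ⟶ Over.mk v)

omit [IsFibGrpd 𝒳.p] in
@[reassoc]
lemma map_cs {T T' : Over S} (m : T' ⟶ T) {u v : T ⟶ U} (e : u = v) {u' v' : T' ⟶ U} (e' : u' = v')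
    (k : Over.mk u' ⟶ Over.mk u) (k' : Over.mk v' ⟶ Over.mk v) (hk : k.left = m) (hk' : k'.left = m) :
    a.map k ≫ cs a e = cs a e' ≫ a.map k' := by
  subst e e'
  rw [cs_refl, cs_refl, Category.comp_id, Category.id_comp]
  exact congrArg a.map (Over.OverMorphism.ext (hk.trans hk'.symm))

omit [IsFibGrpd 𝒳.p] in
lemma map_congr {o o' : Over U} {k k' : o ⟶ o'} (h : k.left = k'.left) : a.map k = a.map k' :=
  congrArg a.map (Over.OverMorphism.ext h)

end StackSecLib
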