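import Groth.Agent.AlgSpLib.Space
import Groth.Agent.AlgSpLib.Basic

/-!
# Schemes of simultaneous lifts of finitely many points of a space along a chart
-/

set_option autoImplicit false
set_option backward.isDefEq.respectTransparency false
set_option backward.isDefEq.respectTransparency.types false

universe u

open CategoryTheory CategoryTheory.Limits AlgebraicGeometry AlgSp

noncomputable section

namespace StackSecLib

open AlgSpLib

variable {S : Scheme.{u}} {X : Sp S} {E : Over S} {p : (yon S).obj E ⟶ X}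
  {P : MorphismProperty Scheme.{u}} [P.IsMultiplicative] [P.IsStableUnderBaseChange]

theorem exists_lifts_fin (hp : RepWith P p) (B : Over S) :
    ∀ (n : ℕ) (ξ : Fin n → ((yon S).obj B ⟶ X)),
      ∃ (W : Over S) (pr : W ⟶ B) (e : Fin n → (W ⟶ E)), P pr.left ∧
        (∀ i, (yon S).map (e i) ≫ p = (yon S).map pr ≫ ξ i) ∧
        ∀ (T : Over S) (b : T ⟶ B) (f : Fin n → (T ⟶ E)),
          (∀ i, (yon S).map (f i) ≫ p = (yon S).map b ≫ ξ i) → ∃! l : T ⟶ W, l ≫ pr = b ∧ ∀ i, l ≫ e i = f i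
  | 0, ξ => ⟨B, 𝟙 B, Fin.elim0, P.id_mem _, fun i => i.elim0, fun T b f _ =>
      ⟨b, ⟨Category.comp_id _, fun i => i.elim0⟩, fun l hl => by rw [← hl.1, Category.comp_id]⟩⟩
  | n + 1, ξ => by
    obtain ⟨W, pr, e, hP, he, hu⟩ := exists_lifts_fin hp B n fun i => ξ i.succ
    obtain ⟨W', e₀, q, sq⟩ := exists_isPullback_yon p ((yon S).map pr ≫ ξ 0) hp.rep
    have hq : P q.left := hp.property ((yon S).map pr ≫ ξ 0) ((yon S).map e₀) q sq
    refine ⟨W', q ≫ pr, Fin.cases e₀ fun i => q ≫ e i, P.comp_mem _ _ hq hP, fun i => ?_, fun T b f hf => ?_⟩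
    · induction i using Fin.cases with
      | zero => dsimp only [Fin.cases_zero]; rw [sq.w, Functor.map_comp, Category.assoc]
      | succ i => dsimp only [Fin.cases_succ]; rw [Functor.map_comp, Category.assoc, he, Functor.map_comp, Category.assoc]
    · obtain ⟨l, ⟨hl₁, hl₂⟩, hlu⟩ := hu T b (fun i => f i.succ) fun i => hf i.succ
      obtain ⟨k, hk⟩ := (yon S).map_surjective (sq.lift ((yon S).map (f 0)) ((yon S).map l) (by
        rw [hf, ← Category.assoc, ← Functor.map_comp, hl₁]))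
      have hk₀ : k ≫ e₀ = f 0 := (yon S).map_injective (by rw [Functor.map_comp, hk, sq.lift_fst])
      have hk₁ : k ≫ q = l := (yon S).map_injective (by rw [Functor.map_comp, hk, sq.lift_snd])
      refine ⟨k, ⟨by rw [← Category.assoc, hk₁, hl₁], Fin.cases (by dsimp only [Fin.cases_zero]; exact hk₀)
        fun i => by dsimp only [Fin.cases_succ]; rw [← Category.assoc, hk₁, hl₂]⟩, fun k' ⟨hk'₁, hk'₂⟩ => ?_⟩
      have h0 := hk'₂ 0
      dsimp only [Fin.cases_zero] at h0
      have h1 : k' ≫ q = l := hlu _ ⟨by rw [Category.assoc, hk'₁], fun i => by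
        have := hk'₂ i.succ
        dsimp only [Fin.cases_succ] at this
        rw [Category.assoc, this]⟩
      refine (yon S).map_injective (sq.hom_ext ?_ ?_)
      · rw [← Functor.map_comp, ← Functor.map_comp, h0, hk₀]
      · rw [← Functor.map_comp, ← Functor.map_comp, h1, hk₁]

/-- The scheme of lifts of a finite family of points. -/
theorem exists_lifts (hp : RepWith P p) (B : Over S) {ι : Type*} [Finite ι] (ξ : ι → ((yon S).obj B ⟶ X)) :
    ∃ (W : Over S) (pr : W ⟶ B) (e : ι → (W ⟶ E)), P pr.left ∧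
      (∀ i, (yon S).map (e i) ≫ p = (yon S).map pr ≫ ξ i) ∧
      ∀ (T : Over S) (b : T ⟶ B) (f : ι → (T ⟶ E)),
        (∀ i, (yon S).map (f i) ≫ p = (yon S).map b ≫ ξ i) → ∃! l : T ⟶ W, l ≫ pr = b ∧ ∀ i, l ≫ e i = f i := by
  obtain ⟨n, ⟨σ⟩⟩ := Finite.exists_equiv_fin ι
  obtain ⟨W, pr, e, hP, he, hu⟩ := exists_lifts_fin hp B n fun i => ξ (σ.symm i)
  refine ⟨W, pr, fun i => e (σ i), hP, fun i => by simpa using he (σ i), fun T b f hf => ?_⟩
  obtain ⟨l, ⟨h₁, h₂⟩, hlu⟩ := hu T b (fun i => f (σ.symm i)) fun i => hf _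
  exact ⟨l, ⟨h₁, fun i => by simpa using h₂ (σ i)⟩,
    fun l' ⟨h₁', h₂'⟩ => hlu l' ⟨h₁', fun i => by simpa using h₂' (σ.symm i)⟩⟩

end StackSecLib
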