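import Groth.Agent.StackSecLib.Orbit
import Groth.Agent.StackSecLib.Code
import Groth.Agent.StackSecLib.Lifts
import Groth.Agent.StackSecLib.Conf

/-!
# Coherent families of isomorphisms indexed by pairs in a finite group
-/

set_option autoImplicit false
set_option backward.isDefEq.respectTransparency false
set_option backward.isDefEq.respectTransparency.types false

universe u

open CategoryTheory CategoryTheory.Limits AlgebraicGeometry AlgSp FibCat FibLib IsoNatLib AlgSpLib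

noncomputable section

namespace StackSecLib

variable {S : Scheme.{u}} {𝒳 : AlgSt.Cat S} [IsFibGrpd 𝒳.p] {U : Over S} (a : overCat U ⥤ᵇ 𝒳)
  {H : Sp S} {pr : H ⟶ (yon S).obj U} (C : Classifier a (zU a) pr) {E : Over S} (p : (yon S).obj E ⟶ H)
  (G : Type u) [Group G] [Finite G]

/-- Points indexed by a group with coherent identifications, chart lifts of these and distinct labels. -/
structure Graph (T : Over S) where
  /-- the points -/
  π : G → (T ⟶ U)
  /-- the identifications -/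
  β : ∀ g h : G, a.obj (Over.mk (π g)) ⟶ a.obj (Over.mk (π h))
  β_lift : ∀ g h, 𝒳.p.IsHomLift (𝟙 T) (β g h)
  mul : ∀ g h k, β g h ≫ β h k = β g k
  /-- the lifts -/
  e : G → G → (T ⟶ E)
  he : ∀ g h, (yon S).map (e g h) ≫ p = pt a C (π h) (π g) (β g h) (β_lift g h)
  /-- the labels -/
  c : T ⟶ Conf G S

variable {a C p G}

namespace Graph

variable {T : Over S} (Γ : Graph a C p G T)

lemma β_self (g : G) : Γ.β g g = 𝟙 _ := by
  haveI := Γ.β_lift g g
  haveI : IsIso (Γ.β g g) := isIso_of_isHomLift (p := 𝒳.p) (𝟙 T) _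
  rw [← cancel_epi (Γ.β g g), Γ.mul, Category.comp_id]

lemma e_base {sE : E ⟶ U} (hs : p ≫ pr = (yon S).map sE) (g h : G) : Γ.e g h ≫ sE = Γ.π h :=
  (yon S).map_injective (by rw [Functor.map_comp, ← hs, ← Category.assoc, Γ.he, pt_pr])

/-- A map respecting the lifts respects the identifications. -/
lemma compat {T' : Over S} (Γ' : Graph a C p G T') (l : T' ⟶ T) (hl : ∀ g h, l ≫ Γ.e g h = Γ'.e g h) :
    (∀ g, l ≫ Γ.π g = Γ'.π g) ∧ ∀ g h (kg : Over.mk (Γ'.π g) ⟶ Over.mk (Γ.π g))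
      (kh : Over.mk (Γ'.π h) ⟶ Over.mk (Γ.π h)), kg.left = l → kh.left = l →
        Γ'.β g h ≫ a.map kh = a.map kg ≫ Γ.β g h := by
  have key : ∀ g h, ∃ (hh : l ≫ Γ.π h = Γ'.π h) (hg : l ≫ Γ.π g = Γ'.π g),
      ∀ (kg : Over.mk (Γ'.π g) ⟶ Over.mk (Γ.π g)) (kh : Over.mk (Γ'.π h) ⟶ Over.mk (Γ.π h)),
        kg.left = l → kh.left = l → Γ'.β g h ≫ a.map kh = a.map kg ≫ Γ.β g h := by
    intro g h
    obtain ⟨β', hβ', e'⟩ := exists_pb a l (Γ.β_lift g h)
      (Over.homMk l rfl : Over.mk (l ≫ Γ.π g) ⟶ Over.mk (Γ.π g)) rfl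
      (Over.homMk l rfl : Over.mk (l ≫ Γ.π h) ⟶ Over.mk (Γ.π h)) rfl
    obtain ⟨hh, hg, ee⟩ := pt_inj a C hβ' (Γ'.β_lift g h) (by
      rw [← pt_map a C l (Γ.β_lift g h) hβ' _ rfl _ rfl e', ← Γ.he, ← Category.assoc, ← Functor.map_comp, hl,
        Γ'.he])
    refine ⟨hh, hg, fun kg kh hkg hkh => ?_⟩
    haveI : IsIso (cs a hg) := by
      haveI := cs_lift a hg
      exact isIso_of_isHomLift (p := 𝒳.p) (𝟙 T') _
    rw [← cancel_epi (cs a hg), ← reassoc_of% ee]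
    have h1 : cs a hh ≫ a.map kh = a.map (Over.homMk l rfl : Over.mk (l ≫ Γ.π h) ⟶ Over.mk (Γ.π h)) := by
      rw [cs, ← a.toFunctor.map_comp]
      exact map_congr a (by rw [Over.comp_left, hkh]; exact Category.id_comp _)
    have h2 : cs a hg ≫ a.map kg = a.map (Over.homMk l rfl : Over.mk (l ≫ Γ.π g) ⟶ Over.mk (Γ.π g)) := by
      rw [cs, ← a.toFunctor.map_comp]
      exact map_congr a (by rw [Over.comp_left, hkg]; exact Category.id_comp _)
    rw [h1, reassoc_of% h2, e']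
  exact ⟨fun g => (key g g).choose, fun g h => (key g h).choose_spec.choose_spec⟩

/-- The same family seen through a translation. -/
def shift (σ : G) (c' : T ⟶ Conf G S) : Graph a C p G T where
  π g := Γ.π (g * σ)
  β g h := Γ.β (g * σ) (h * σ)
  β_lift g h := Γ.β_lift _ _
  mul g h k := Γ.mul _ _ _
  e g h := Γ.e (g * σ) (h * σ)
  he g h := Γ.he _ _
  c := c'

end Graph

/-- The scheme representing graphs. -/
theorem exists_universal (hsm : LocP @Smooth pr) (hp : RepWith @Etale p) :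
    ∃ (W : Over S) (Γ : Graph a C p G W), Smooth (Γ.π 1).left ∧
      ∀ (T : Over S) (Γ' : Graph a C p G T),
        ∃! l : T ⟶ W, (∀ g h, l ≫ Γ.e g h = Γ'.e g h) ∧ l ≫ Γ.c = Γ'.c := by
  classical
  haveI : MorphismProperty.IsMultiplicative (@Smooth : MorphismProperty Scheme.{u}) :=
    { id_mem := fun X => inferInstanceAs (Smooth (𝟙 X))
      comp_mem := fun f g hf hg => by haveI := hf; haveI := hg; infer_instance }
  obtain ⟨sE, tE, γ, hγ, eE⟩ := exists_pt a C p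
  have hs : p ≫ pr = (yon S).map sE := by rw [← eE, pt_pr]
  haveI hsE : Smooth sE.left := hsm p (𝟙 _) sE hp (repWith_id _ _) (by rw [Category.comp_id, hs])
  -- the base
  let B₀ : Over S := Over.mk (pullback.fst U.hom (Conf G S).hom ≫ U.hom)
  let prU : B₀ ⟶ U := Over.homMk (pullback.fst U.hom (Conf G S).hom) rfl
  let prC : B₀ ⟶ Conf G S := Over.homMk (pullback.snd U.hom (Conf G S).hom) pullback.condition.symm
  haveI : Smooth prU.left :=
    inferInstanceAs (Smooth (pullback.fst U.hom (Conf G S).hom))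
  -- the star
  obtain ⟨W₁, pr₁, e₁, hpr₁, he₁, hu₁⟩ := exists_lifts (P := (@Smooth : MorphismProperty Scheme.{u}))
    ((repWith_yon_map_iff (P := (@Smooth : MorphismProperty Scheme.{u})) sE).2 hsE) B₀
    fun _ : {g : G // g ≠ 1} => (yon S).map prU
  let u₁ : W₁ ⟶ U := pr₁ ≫ prU
  have he₁' : ∀ g, e₁ g ≫ sE = u₁ := fun g => (yon S).map_injective (by
    rw [Functor.map_comp, he₁, ← Functor.map_comp])
  have star : ∀ g : G, ∃ (y : W₁ ⟶ U) (α : a.obj (Over.mk y) ⟶ a.obj (Over.mk u₁))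
      (hα : 𝒳.p.IsHomLift (𝟙 W₁) α), (g = 1 → ∃ h : y = u₁, α = cs a h) ∧
        ∀ h : g ≠ 1, (yon S).map (e₁ ⟨g, h⟩) ≫ p = pt a C u₁ y α hα := by
    intro g
    by_cases hg : g = 1
    · exact ⟨u₁, cs a rfl, cs_lift a rfl, fun _ => ⟨rfl, rfl⟩, fun h => (h hg).elim⟩
    · obtain ⟨x, y, β, hβ, eβ⟩ := exists_pt a C ((yon S).map (e₁ ⟨g, hg⟩) ≫ p)
      have hx : x = u₁ := (yon S).map_injective (by
        rw [← pt_pr a C hβ, eβ, Category.assoc, hs, ← Functor.map_comp, he₁'])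
      subst hx
      exact ⟨y, β, hβ, fun h => (hg h).elim, fun _ => eβ.symm⟩
  choose y α hα hα1 hαe using star
  haveI : ∀ g, IsIso (α g) := fun g => by
    haveI := hα g
    exact isIso_of_isHomLift (p := 𝒳.p) (𝟙 W₁) _
  let β₁ : ∀ g h, a.obj (Over.mk (y g)) ⟶ a.obj (Over.mk (y h)) := fun g h => α g ≫ inv (α h)
  have hβ₁ : ∀ g h, 𝒳.p.IsHomLift (𝟙 W₁) (β₁ g h) := fun g h => by
    haveI : 𝒳.p.IsHomLift (𝟙 W₁) (asIso (α h)).hom := hα h
    exact GerbeLib.isHomLift_id_comp _ _ _ _ (hα g)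
      (IsHomLift.lift_id_inv 𝒳.p W₁ (asIso (α h)) : 𝒳.p.IsHomLift (𝟙 W₁) (asIso (α h)).inv)
  -- the pairs
  obtain ⟨W, pr₂, e₂, hpr₂, he₂, hu₂⟩ := exists_lifts (P := (@Etale : MorphismProperty Scheme.{u})) hp W₁
    fun q : {q : G × G // ¬ (q.2 = 1 ∧ q.1 ≠ 1)} => pt a C (y q.1.2) (y q.1.1) (β₁ q.1.1 q.1.2) (hβ₁ _ _)
  let e : G → G → (W ⟶ E) := fun g h =>
    if hq : h = 1 ∧ g ≠ 1 then pr₂ ≫ e₁ ⟨g, hq.2⟩ else e₂ ⟨(g, h), hq⟩
  have hy1 : y 1 = u₁ := (hα1 1 rfl).choose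
  have hstar : ∀ g (hg : g ≠ 1), pt a C u₁ (y g) (α g) (hα g) = pt a C (y 1) (y g) (β₁ g 1) (hβ₁ g 1) :=
    fun g _ => pt_congr a C hy1.symm rfl _ _ (by
      obtain ⟨h, hc⟩ := hα1 1 rfl
      rw [cs_refl, Category.id_comp]
      simp only [β₁]
      congr 1
      refine IsIso.eq_inv_of_hom_inv_id ?_
      rw [hc, cs_cs, cs_refl])
  choose β hβ eβ using fun g h => exists_pb a pr₂ (hβ₁ g h)
    (Over.homMk pr₂ rfl : Over.mk (pr₂ ≫ y g) ⟶ Over.mk (y g)) rfl
    (Over.homMk pr₂ rfl : Over.mk (pr₂ ≫ y h) ⟶ Over.mk (y h)) rfl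
  let Γ : Graph a C p G W :=
    { π := fun g => pr₂ ≫ y g
      β := β
      β_lift := hβ
      mul := fun g h k => by
        refine vert_inj a (Over.homMk pr₂ rfl : Over.mk (pr₂ ≫ y k) ⟶ Over.mk (y k)) rfl
          (GerbeLib.isHomLift_id_comp _ _ _ _ (hβ g h) (hβ h k)) (hβ g k) ?_
        rw [Category.assoc, eβ, reassoc_of% eβ g h, eβ g k]
        simp [β₁]
      e := e
      he := fun g h => by
        rw [← pt_map a C pr₂ (hβ₁ g h) (hβ g h) _ rfl _ rfl (eβ g h)]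
        simp only [e]
        split_ifs with hq
        · obtain ⟨rfl, hg⟩ := hq
          rw [Functor.map_comp, Category.assoc, hαe g hg, hstar g hg]
        · exact he₂ _
      c := pr₂ ≫ pr₁ ≫ prC }
  refine ⟨W, Γ, ?_, fun T Γ' => ?_⟩
  · show Smooth (pr₂ ≫ y 1).left
    rw [hy1]
    haveI : Etale pr₂.left := hpr₂
    haveI : Smooth pr₁.left := hpr₁
    simp only [u₁, Over.comp_left]
    infer_instance
  let b₀ : T ⟶ B₀ := Over.homMk (pullback.lift (Γ'.π 1).left Γ'.c.left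
    ((Over.w (Γ'.π 1)).trans (Over.w Γ'.c).symm)) (by
      show pullback.lift _ _ _ ≫ pullback.fst _ _ ≫ U.hom = T.hom
      rw [pullback.lift_fst_assoc]
      exact Over.w (Γ'.π 1))
  have hb₀U : b₀ ≫ prU = Γ'.π 1 := Over.OverMorphism.ext (pullback.lift_fst _ _ _)
  have hb₀C : b₀ ≫ prC = Γ'.c := Over.OverMorphism.ext (pullback.lift_snd _ _ _)
  obtain ⟨l₁, ⟨hl₁b, hl₁e⟩, hl₁u⟩ := hu₁ T b₀ (fun g => Γ'.e g.1 1) fun g => by
    rw [← Functor.map_comp, ← Functor.map_comp, Γ'.e_base hs, hb₀U]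
  have hu' : l₁ ≫ u₁ = Γ'.π 1 := by rw [← Category.assoc, hl₁b, hb₀U]
  let Mu : Over.mk (Γ'.π 1) ⟶ Over.mk u₁ := Over.homMk l₁ hu'
  have hst : ∀ g, ∃ (k : Over.mk (Γ'.π g) ⟶ Over.mk (y g)),
      k.left = l₁ ∧ Γ'.β g 1 ≫ a.map Mu = a.map k ≫ α g := by
    intro g
    by_cases hg : g = 1
    · subst hg
      obtain ⟨h, hc⟩ := hα1 1 rfl
      let k : Over.mk (Γ'.π 1) ⟶ Over.mk (y 1) := Over.homMk l₁ (by rw [h]; exact hu')
      refine ⟨k, rfl, ?_⟩
      rw [Γ'.β_self, hc, Category.id_comp, cs, ← a.toFunctor.map_comp]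
      exact map_congr a (Category.comp_id _).symm
    · obtain ⟨α', hα', eα⟩ := exists_pb a l₁ (hα g)
        (Over.homMk l₁ rfl : Over.mk (l₁ ≫ y g) ⟶ Over.mk (y g)) rfl
        (Over.homMk l₁ rfl : Over.mk (l₁ ≫ u₁) ⟶ Over.mk u₁) rfl
      obtain ⟨hx, hy, ee⟩ := pt_inj a C hα' (Γ'.β_lift g 1) (by
        rw [← pt_map a C l₁ (hα g) hα' _ rfl _ rfl eα, ← hαe g hg, ← Category.assoc, ← Functor.map_comp, hl₁e,
          Γ'.he])
      let k : Over.mk (Γ'.π g) ⟶ Over.mk (y g) := Over.homMk l₁ hy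
      refine ⟨k, rfl, ?_⟩
      haveI : IsIso (cs a hy) := by
        haveI := cs_lift a hy
        exact isIso_of_isHomLift (p := 𝒳.p) (𝟙 T) _
      rw [← cancel_epi (cs a hy), ← reassoc_of% ee]
      have h1 : cs a hx ≫ a.map Mu = a.map (Over.homMk l₁ rfl : Over.mk (l₁ ≫ u₁) ⟶ Over.mk u₁) := by
        rw [cs, ← a.toFunctor.map_comp]
        exact map_congr a (Category.id_comp _)
      have h2 : cs a hy ≫ a.map k = a.map (Over.homMk l₁ rfl : Over.mk (l₁ ≫ y g) ⟶ Over.mk (y g)) := by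
        rw [cs, ← a.toFunctor.map_comp]
        exact map_congr a (Category.id_comp _)
      rw [h1, reassoc_of% h2, eα]
  choose k hk hkβ using hst
  have hpair : ∀ g h, Γ'.β g h ≫ a.map (k h) = a.map (k g) ≫ β₁ g h := fun g h => by
    rw [← cancel_mono (α h), Category.assoc, ← hkβ h, ← Category.assoc, Γ'.mul, hkβ g]
    simp [β₁]
  obtain ⟨l, ⟨hlb, hle⟩, hlu⟩ := hu₂ T l₁ (fun q => Γ'.e q.1.1 q.1.2) fun q => by
    rw [Γ'.he]
    exact (pt_map a C l₁ (hβ₁ _ _) (Γ'.β_lift _ _) (k q.1.1) (hk _) (k q.1.2) (hk _) (hpair _ _)).symm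
  refine ⟨l, ⟨fun g h => ?_, ?_⟩, fun l' ⟨hl'e, hl'c⟩ => ?_⟩
  · show l ≫ e g h = _
    simp only [e]
    split_ifs with hq
    · obtain ⟨rfl, hg⟩ := hq
      rw [← Category.assoc, hlb, hl₁e]
    · exact hle ⟨(g, h), hq⟩
  · show l ≫ pr₂ ≫ pr₁ ≫ prC = _
    rw [← Category.assoc, hlb, ← Category.assoc, hl₁b, hb₀C]
  have h1 : l' ≫ pr₂ = l₁ := by
    refine hl₁u _ ⟨?_, fun g => ?_⟩
    · refine Over.OverMorphism.ext (pullback.hom_ext ?_ ?_)
      · have hπ := ((Γ.compat Γ' l' hl'e).1 1)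
        rw [show Γ.π 1 = pr₂ ≫ u₁ from congrArg (pr₂ ≫ ·) hy1] at hπ
        have := congrArg (fun m => m.left) (hπ.trans hb₀U.symm)
        simpa [u₁, prU, Category.assoc] using this
      · have := congrArg (fun m => m.left) (hl'c.trans hb₀C.symm)
        simpa [Γ, prC, Category.assoc] using this
    · have := hl'e g.1 1
      simp only [Γ, e, dif_pos (And.intro rfl g.2 : (1 : G) = 1 ∧ g.1 ≠ 1)] at this
      rw [Category.assoc]
      exact this
  refine hlu _ ⟨h1, fun q => ?_⟩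
  have := hl'e q.1.1 q.1.2
  simp only [Γ, e, dif_neg q.2] at this
  exact this

/-- The free action and transports of the universal graph. -/
theorem exists_twistAct (hsm : LocP @Smooth pr) (hp : RepWith @Etale p) :
    ∃ (W : Over S) (Γ : Graph a C p G W), Smooth (Γ.π 1).left ∧
      (∀ (T : Over S) (Γ' : Graph a C p G T),
        ∃! l : T ⟶ W, (∀ g h, l ≫ Γ.e g h = Γ'.e g h) ∧ l ≫ Γ.c = Γ'.c) ∧
      ∃ (ρ : G →* Aut W) (D : TwistAct a) (eG : D.G ≃* G) (eW : D.W ≅ W),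
        (∀ g σ h, (ρ σ).hom ≫ Γ.e g h = Γ.e (g * σ) (h * σ)) ∧
        (∀ σ g, confVal ((ρ σ).hom ≫ Γ.c) g = confVal Γ.c (g * σ)) ∧
        (∀ g, D.π g = eW.hom ≫ Γ.π (eG g)) ∧ (∀ σ, (D.ρ σ).hom ≫ eW.hom = eW.hom ≫ (ρ (eG σ)).hom) ∧
        ∀ g {T : Over S} (w : T ⟶ D.W) (kx : Over.mk (w ≫ D.π g) ⟶ Over.mk (Γ.π (eG g)))
          (ky : Over.mk (w ≫ D.π 1) ⟶ Over.mk (Γ.π 1)), kx.left = (w ≫ eW.hom) → ky.left = (w ≫ eW.hom) →
          D.θ g w ≫ a.map kx = a.map ky ≫ Γ.β 1 (eG g) := by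
  obtain ⟨W, Γ, hsmπ, huniv⟩ := exists_universal (a := a) (C := C) (p := p) (G := G) hsm hp
  have hc : ∀ σ : G, ∃ c' : W ⟶ Conf G S, ∀ g, confVal c' g = confVal Γ.c (g * σ) := fun σ =>
    exists_conf (fun g => confVal Γ.c (g * σ)) fun g h hgh => isUnit_confVal_sub Γ.c fun e => hgh (mul_right_cancel e)
  choose c' hc' using hc
  choose l hl using fun σ => (huniv W (Γ.shift σ (c' σ))).exists
  have hext : ∀ {T : Over S} (m m' : T ⟶ W), (∀ g h, m ≫ Γ.e g h = m' ≫ Γ.e g h) → m ≫ Γ.c = m' ≫ Γ.c →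
      m = m' := by
    intro T m m' he hc
    choose β hβ eβ using fun g h => exists_pb a m' (Γ.β_lift g h)
      (Over.homMk m' rfl : Over.mk (m' ≫ Γ.π g) ⟶ Over.mk (Γ.π g)) rfl
      (Over.homMk m' rfl : Over.mk (m' ≫ Γ.π h) ⟶ Over.mk (Γ.π h)) rfl
    let Γ' : Graph a C p G T :=
      { π := fun g => m' ≫ Γ.π g
        β := β
        β_lift := hβ
        mul := fun g h k => vert_inj a (Over.homMk m' rfl : Over.mk (m' ≫ Γ.π k) ⟶ Over.mk (Γ.π k)) rfl
          (GerbeLib.isHomLift_id_comp _ _ _ _ (hβ g h) (hβ h k)) (hβ g k) (by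
            rw [Category.assoc, eβ, reassoc_of% eβ g h, Γ.mul, eβ g k])
        e := fun g h => m' ≫ Γ.e g h
        he := fun g h => by
          rw [Functor.map_comp, Category.assoc, Γ.he, pt_map a C m' (Γ.β_lift g h) (hβ g h) _ rfl _ rfl (eβ g h)]
        c := m' ≫ Γ.c }
    exact (huniv T Γ').unique ⟨he, hc⟩ ⟨fun g h => rfl, rfl⟩
  have hle : ∀ σ g h, l σ ≫ Γ.e g h = Γ.e (g * σ) (h * σ) := fun σ => (hl σ).1
  have hlc : ∀ σ g, confVal (l σ ≫ Γ.c) g = confVal Γ.c (g * σ) := fun σ g => by rw [(hl σ).2]; exact hc' σ g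
  have hlπ : ∀ σ g, l σ ≫ Γ.π g = Γ.π (g * σ) := fun σ g => (Γ.compat _ (l σ) (hl σ).1).1 g
  have hlmul : ∀ σ τ, l τ ≫ l σ = l (σ * τ) := fun σ τ => hext _ _
    (fun g h => by rw [Category.assoc, hle, hle, hle, mul_assoc, mul_assoc])
    (conf_ext fun g => by
      rw [Category.assoc, confVal_comp, hlc, ← confVal_comp, hlc, hlc, mul_assoc])
  have hl1 : l 1 = 𝟙 W := hext _ _ (fun g h => by rw [hle, mul_one, mul_one, Category.id_comp])
    (conf_ext fun g => by rw [hlc, mul_one, Category.id_comp])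
  let ρ : G →* Aut W :=
    { toFun := fun σ =>
        { hom := l σ
          inv := l σ⁻¹
          hom_inv_id := by rw [hlmul, inv_mul_cancel, hl1]
          inv_hom_id := by rw [hlmul, mul_inv_cancel, hl1] }
      map_one' := Iso.ext hl1
      map_mul' := fun σ τ => Iso.ext (hlmul σ τ).symm }
  choose θ hθ eθ using fun (g : G) (T : Over S) (w : T ⟶ W) => exists_pb a w (Γ.β_lift 1 g)
    (Over.homMk w rfl : Over.mk (w ≫ Γ.π 1) ⟶ Over.mk (Γ.π 1)) rfl
    (Over.homMk w rfl : Over.mk (w ≫ Γ.π g) ⟶ Over.mk (Γ.π g)) rfl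
  let D : TwistAct a :=
    { G := G
      W := W
      ρ := ρ
      free := fun σ x hσ hfix => by
        let T : Over S := Over.mk (W.left.fromSpecResidueField x ≫ W.hom)
        let i : T ⟶ W := Over.homMk (W.left.fromSpecResidueField x) rfl
        have h1 : i ≫ l σ = i := Over.OverMorphism.ext hfix
        have h2 : confVal (i ≫ Γ.c) (1 * σ) = confVal (i ≫ Γ.c) 1 := by
          conv_rhs => rw [← h1, Category.assoc]
          rw [confVal_comp, confVal_comp, hlc]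
        have h3 := isUnit_confVal_sub (i ≫ Γ.c) (g := 1 * σ) (h := 1) (by rwa [one_mul])
        rw [h2, sub_self] at h3
        haveI : Nontrivial Γ(T.left, ⊤) := by
          change Nontrivial Γ(Spec (W.left.residueField x), ⊤)
          exact (Scheme.ΓSpecIso (W.left.residueField x)).commRingCatIsoToRingEquiv.toEquiv.nontrivial
        exact not_isUnit_zero h3
      π := Γ.π
      act_π := fun g σ => hlπ σ g
      θ := fun g T w => θ g T w
      θ_lift := fun g T w => hθ g T w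
      θ_nat := fun g T T' m w => by
        let j : ∀ h, Over.mk ((m ≫ w) ≫ Γ.π h) ⟶ Over.mk (w ≫ Γ.π h) := fun h =>
          Over.homMk m (Category.assoc m w (Γ.π h)).symm
        refine lift_inj a (Over.homMk w rfl : Over.mk (w ≫ Γ.π g) ⟶ Over.mk (Γ.π g)) rfl
          (GerbeLib.isHomLift_id_comp _ _ _ _ (hθ g T' (m ≫ w)) (lift_map a (j g)))
          (GerbeLib.isHomLift_comp_id _ _ _ _ (lift_map a (j 1)) (hθ g T w)) ?_
        have hj : ∀ h, j h ≫ (Over.homMk w rfl : Over.mk (w ≫ Γ.π h) ⟶ Over.mk (Γ.π h)) = Over.homMk (m ≫ w) rfl :=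
          fun h => Over.OverMorphism.ext rfl
        have hl : θ g T' (m ≫ w) ≫ a.map (j g) ≫ a.map (Over.homMk w rfl : Over.mk (w ≫ Γ.π g) ⟶ Over.mk (Γ.π g)) =
            a.map (Over.homMk (m ≫ w) rfl : Over.mk ((m ≫ w) ≫ Γ.π 1) ⟶ Over.mk (Γ.π 1)) ≫ Γ.β 1 g := by
          refine Eq.trans (congrArg (fun q => θ g T' (m ≫ w) ≫ q) ?_) (eθ g T' (m ≫ w))
          exact (a.toFunctor.map_comp _ _).symm.trans (congrArg a.map (hj g))
        refine (Category.assoc _ _ _).trans (hl.trans ?_)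
        refine Eq.trans ?_ ((Category.assoc _ _ _).trans (congrArg (fun q => a.map (j 1) ≫ q) (eθ g T w))).symm
        refine Eq.trans ?_ (Category.assoc _ _ _)
        exact congrArg (fun q => q ≫ Γ.β 1 g) (((a.toFunctor.map_comp _ _).symm.trans (congrArg a.map (hj 1))).symm)
      θ_mul := fun g σ T w e₁ e₂ => by
        let kx : Over.mk (w ≫ Γ.π (g * σ)) ⟶ Over.mk (Γ.π (g * σ)) := Over.homMk w rfl
        refine vert_inj a kx rfl
          (GerbeLib.isHomLift_id_comp _ _ _ _ (hθ σ T w) (GerbeLib.isHomLift_id_comp _ _ _ _ (cs_lift a e₁)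
            (GerbeLib.isHomLift_id_comp _ _ _ _ (hθ g T _) (cs_lift a e₂)))) (hθ (g * σ) T w) ?_
        rw [eθ (g * σ) T w]
        let kσ : Over.mk (w ≫ Γ.π σ) ⟶ Over.mk (Γ.π σ) := Over.homMk w rfl
        let k₁ : Over.mk ((w ≫ l σ) ≫ Γ.π 1) ⟶ Over.mk (Γ.π 1) := Over.homMk (w ≫ l σ) rfl
        let kg : Over.mk ((w ≫ l σ) ≫ Γ.π g) ⟶ Over.mk (Γ.π g) := Over.homMk (w ≫ l σ) rfl
        let mσ : ∀ h, Over.mk (Γ.π (h * σ)) ⟶ Over.mk (Γ.π h) := fun h => Over.homMk (l σ) (hlπ σ h)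
        have hcmp := (Γ.compat (Γ.shift σ (c' σ)) (l σ) (hl σ).1).2 1 g (mσ 1) (mσ g) rfl rfl
        change Γ.β (1 * σ) (g * σ) ≫ _ = _ at hcmp
        haveI : IsIso (a.map (mσ g)) := by
          haveI : IsIso (ρ σ).hom := inferInstance
          haveI : IsIso ((Over.forget U).map (mσ g)) := inferInstanceAs (IsIso (ρ σ).hom)
          haveI : IsIso (mσ g) := isIso_of_reflects_iso _ (Over.forget U)
          infer_instance
        rw [← cancel_mono (a.map (mσ g))]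
        simp only [Category.assoc]
        have h2 : cs a e₂ ≫ a.map kx ≫ a.map (mσ g) = a.map kg := by
          rw [cs, ← a.toFunctor.map_comp, ← a.toFunctor.map_comp]
          exact map_congr a (by simp [kx, kg, mσ]; rfl)
        have h1 : cs a e₁ ≫ a.map k₁ = a.map kσ ≫ a.map (Over.homMk (l σ) (by show l σ ≫ Γ.π 1 = Γ.π σ; rw [hlπ, one_mul]) :
            Over.mk (Γ.π σ) ⟶ Over.mk (Γ.π 1)) := by
          rw [cs, ← a.toFunctor.map_comp, ← a.toFunctor.map_comp]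
          exact map_congr a (by simp [kσ, k₁]; rfl)
        rw [h2]
        change _ ≫ _ ≫ θ g T (w ≫ l σ) ≫ _ = _
        rw [eθ g T (w ≫ l σ), reassoc_of% h1, reassoc_of% eθ σ T w]
        congr 1
        have h3 : ∀ (σ' : G) (e : σ' = σ) (k : Over.mk (Γ.π σ') ⟶ Over.mk (Γ.π 1)) (k' : Over.mk (Γ.π σ) ⟶
            Over.mk (Γ.π 1)), k.left = l σ → k'.left = l σ →
            Γ.β σ' (g * σ) ≫ a.map (mσ g) = a.map k ≫ Γ.β 1 g → Γ.β σ (g * σ) ≫ a.map (mσ g) = a.map k' ≫ Γ.β 1 g := by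
          rintro _ rfl k k' hk hk' h
          rwa [show k' = k from Over.OverMorphism.ext (hk'.trans hk.symm)]
        rw [← h3 (1 * σ) (one_mul σ) (mσ 1) _ rfl rfl hcmp, ← Category.assoc, Γ.mul] }
  exact ⟨W, Γ, hsmπ, huniv, ρ, D, MulEquiv.refl G, Iso.refl W, fun g σ h => hle σ g h, hlc,
    fun g => (Category.id_comp _).symm, fun σ => (Category.comp_id _).trans (Category.id_comp _).symm,
    fun g T w kx ky hkx hky => by
      rw [show kx = Over.homMk w rfl from Over.OverMorphism.ext (hkx.trans (Category.comp_id w)),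
        show ky = Over.homMk w rfl from Over.OverMorphism.ext (hky.trans (Category.comp_id w))]
      exact eθ g T w⟩

end StackSecLib
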