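import Groth.Agent.StackSecLib.Galois
import Groth.Agent.StackSecLib.Graph

/-!
# The orbit point of a Galois lift on the scheme of coherent isomorphisms
-/

set_option autoImplicit false
set_option backward.isDefEq.respectTransparency false
set_option backward.isDefEq.respectTransparency.types false

universe u

open CategoryTheory CategoryTheory.Limits AlgebraicGeometry AlgSp FibCat FibLib IsoNatLib AlgSpLib
open CategoryTheory.Functor (Fiber IsStronglyCartesian)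

noncomputable section

namespace StackSecLib

variable {S : Scheme.{u}}

/-- The scheme map of an automorphism of an extension field. -/
def galMap {k : Type u} [Field k] (sk : Spec (CommRingCat.of k) ⟶ S) {L : Type u} [Field L] [Algebra k L]
    (f : L ≃ₐ[k] L) : gObj sk L ⟶ gObj sk L :=
  Over.homMk (Spec.map (CommRingCat.ofHom (f : L →+* L))) (by
    change _ ≫ Spec.map _ ≫ sk = Spec.map _ ≫ sk
    rw [← Spec.map_comp_assoc]
    exact congrArg (fun r => Spec.map r ≫ sk) (CommRingCat.hom_ext (RingHom.ext fun r => f.commutes r)))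

lemma galMap_one {k : Type u} [Field k] (sk : Spec (CommRingCat.of k) ⟶ S) {L : Type u} [Field L] [Algebra k L] :
    galMap sk (1 : L ≃ₐ[k] L) = 𝟙 _ := Over.OverMorphism.ext (by
  change Spec.map (CommRingCat.ofHom (RingHom.id L)) = 𝟙 (Spec (CommRingCat.of L))
  exact Spec.map_id _)

lemma galMap_mul {k : Type u} [Field k] (sk : Spec (CommRingCat.of k) ⟶ S) {L : Type u} [Field L] [Algebra k L]
    (f g : L ≃ₐ[k] L) : galMap sk f ≫ galMap sk g = galMap sk (f * g) := Over.OverMorphism.ext (by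
  change Spec.map _ ≫ Spec.map _ = Spec.map _
  rw [← Spec.map_comp]
  rfl)

lemma galMap_ι {k : Type u} [Field k] (sk : Spec (CommRingCat.of k) ⟶ S) {L : Type u} [Field L] [Algebra k L]
    (f : L ≃ₐ[k] L) : galMap sk f ≫ gι sk L = gι sk L := Over.OverMorphism.ext (by
  change Spec.map _ ≫ Spec.map _ = Spec.map _
  rw [← Spec.map_comp]
  exact congrArg Spec.map (CommRingCat.hom_ext (RingHom.ext fun r => f.commutes r)))

/-- Geometric points with the same image differ by an automorphism. -/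
lemma galMap_transitive {k : Type u} [Field k] (sk : Spec (CommRingCat.of k) ⟶ S) {L : Type u} [Field L]
    [Algebra k L] [FiniteDimensional k L] [IsGalois k L] (K : Type u) [Field K] [IsAlgClosed K]
    (a b : Spec (CommRingCat.of K) ⟶ (gObj sk L).left)
    (e : a ≫ (gι sk L).left = b ≫ (gι sk L).left) : ∃ f : L ≃ₐ[k] L, a ≫ (galMap sk f).left = b := by
  obtain ⟨a', rfl⟩ := Spec.map_surjective (R := CommRingCat.of L) a
  obtain ⟨b', rfl⟩ := Spec.map_surjective (R := CommRingCat.of L) b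
  change Spec.map a' ≫ Spec.map _ = Spec.map b' ≫ Spec.map _ at e
  rw [← Spec.map_comp, ← Spec.map_comp, Spec.map_inj] at e
  letI : Algebra k K := (a'.hom.comp (algebraMap k L)).toAlgebra
  let A : L →ₐ[k] K := { a'.hom with commutes' := fun r => rfl }
  let B : L →ₐ[k] K := { b'.hom with commutes' := fun r => (congrArg (fun q => q.hom r) e).symm }
  let F : (L ≃ₐ[k] L) → (L →ₐ[k] K) := fun f => A.comp f.toAlgHom
  have hinj : Function.Injective F := fun f g h => AlgEquiv.ext fun z =>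
    A.toRingHom.injective (congrArg (fun q : L →ₐ[k] K => q z) h)
  have hsurj : Function.Surjective F := by
    refine (Function.Injective.bijective_of_nat_card_le hinj ?_).2
    rw [AlgHom.natCard_of_splits k L K fun z => IsAlgClosed.splits _, IsGalois.card_aut_eq_finrank]
  obtain ⟨f, hf⟩ := hsurj B
  refine ⟨f, ?_⟩
  change Spec.map a' ≫ Spec.map _ = Spec.map b'
  rw [← Spec.map_comp]
  exact congrArg Spec.map (CommRingCat.hom_ext (RingHom.ext fun z => congrArg (fun q : L →ₐ[k] K => q z) hf))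

variable {𝒳 : AlgSt.Cat S} [IsFibGrpd 𝒳.p] {U : Over S} (a : overCat U ⥤ᵇ 𝒳) {H : Sp S}
  {pr : H ⟶ (yon S).obj U} (C : Classifier a (zU a) pr) {E : Over S} (p : (yon S).obj E ⟶ H)

/-- The universal graph with its action and transports. -/
structure GraphAct (G : Type u) [Group G] [Finite G] : Type (u + 2) where
  /-- the scheme -/
  W : Over S
  /-- the graph -/
  Γ : Graph a C p G W
  smooth : Smooth (Γ.π 1).left
  univ : ∀ (T : Over S) (Γ' : Graph a C p G T),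
    ∃! l : T ⟶ W, (∀ g h, l ≫ Γ.e g h = Γ'.e g h) ∧ l ≫ Γ.c = Γ'.c
  /-- the action -/
  ρ : G →* Aut W
  /-- the transports -/
  D : TwistAct a
  /-- the group of the transports -/
  eG : D.G ≃* G
  /-- the scheme of the transports -/
  eW : D.W ≅ W
  ρ_e : ∀ g σ h, (ρ σ).hom ≫ Γ.e g h = Γ.e (g * σ) (h * σ)
  ρ_c : ∀ σ g, confVal ((ρ σ).hom ≫ Γ.c) g = confVal Γ.c (g * σ)
  D_π : ∀ g, D.π g = eW.hom ≫ Γ.π (eG g)
  D_ρ : ∀ σ, (D.ρ σ).hom ≫ eW.hom = eW.hom ≫ (ρ (eG σ)).hom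
  D_θ : ∀ g {T : Over S} (w : T ⟶ D.W) (kx : Over.mk (w ≫ D.π g) ⟶ Over.mk (Γ.π (eG g)))
    (ky : Over.mk (w ≫ D.π 1) ⟶ Over.mk (Γ.π 1)), kx.left = (w ≫ eW.hom) → ky.left = (w ≫ eW.hom) →
    D.θ g w ≫ a.map kx = a.map ky ≫ Γ.β 1 (eG g)

theorem nonempty_graphAct (G : Type u) [Group G] [Finite G] (hsm : LocP @Smooth pr) (hp : RepWith @Etale p) :
    Nonempty (GraphAct a C p G) := by
  obtain ⟨W, Γ, h₁, h₂, ρ, D, eG, eW, h₃, h₄, h₅, h₆, h₇⟩ := exists_twistAct (a := a) (C := C) (p := p) (G := G) hsm hp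
  exact ⟨⟨W, Γ, h₁, h₂, ρ, D, eG, eW, h₃, h₄, h₅, h₆, h₇⟩⟩

lemma GraphAct.smooth_π {G : Type u} [Group G] [Finite G] (A : GraphAct a C p G) : Smooth (A.D.π 1).left := by
  rw [A.D_π, map_one, Over.comp_left]
  haveI := A.smooth
  infer_instance

variable {a C p}

/-- The orbit point of a Galois lift. -/
theorem exists_orbit_point
    (hlift : ∀ (K : Type u) [Field K] (str : Spec (CommRingCat.of K) ⟶ S)
      (z : (yon S).obj (Over.mk str) ⟶ H), ∃ g : Over.mk str ⟶ E, (yon S).map g ≫ p = z)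
    {k : Type u} [Field k] (sk : Spec (CommRingCat.of k) ⟶ S) (x : overCat (Over.mk sk) ⥤ᵇ 𝒳)
    {L : Type u} [Field L] [Algebra k L] [FiniteDimensional k L] [IsGalois k L] (u : gObj sk L ⟶ U)
    (ρ₀ : a.obj (Over.mk u) ⟶ x.obj (Over.mk (gι sk L))) (hρ₀ : 𝒳.p.IsHomLift (𝟙 (gObj sk L)) ρ₀)
    {G : Type u} [Group G] [Finite G] (eq : G ≃* (L ≃ₐ[k] L)) (A : GraphAct a C p G) :
    ∃ (l : gObj sk L ⟶ A.D.W) (σ : A.D.G → (gObj sk L ⟶ gObj sk L)),
      (∀ g, σ g ≫ gι sk L = gι sk L) ∧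
      (∀ (K : Type u) [Field K] [IsAlgClosed K] (x y : Spec (CommRingCat.of K) ⟶ (gObj sk L).left),
        x ≫ (gι sk L).left = y ≫ (gι sk L).left → ∃ g, x ≫ (σ g).left = y) ∧
      (∀ g, σ g ≫ l = l ≫ (A.D.ρ g).hom) ∧
      ∃ α : a.obj (Over.mk (l ≫ A.D.π 1)) ⟶ x.obj (Over.mk (gι sk L)),
        𝒳.p.IsHomLift (𝟙 (gObj sk L)) α ∧
        ∀ g (m : Over.mk (l ≫ A.D.π g) ⟶ Over.mk (l ≫ A.D.π 1)) (kx : Over.mk (gι sk L) ⟶ Over.mk (gι sk L)),
          m.left = σ g → kx.left = σ g → A.D.θ g l ≫ a.map m ≫ α = α ≫ x.map kx := by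
  classical
  let TL : Over S := gObj sk L
  let γ : G → (TL ⟶ TL) := fun g => galMap sk (eq g)
  have γ_mul : ∀ g h, γ g ≫ γ h = γ (g * h) := fun g h => by simp only [γ, galMap_mul, map_mul]
  have γ_one : γ 1 = 𝟙 TL := by simp only [γ, map_one, galMap_one, TL]
  -- the points and the identifications with the given point
  let π : G → (TL ⟶ U) := fun g => γ g⁻¹ ≫ u
  have hπ : ∀ τ g, γ τ ≫ π g = π (g * τ⁻¹) := fun τ g => by
    simp only [π, ← Category.assoc, γ_mul, mul_inv_rev, inv_inv]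
  let mA : ∀ g, Over.mk (π g) ⟶ Over.mk u := fun g => Over.homMk (γ g⁻¹) rfl
  let mX : ∀ τ, Over.mk (gι sk L) ⟶ Over.mk (gι sk L) := fun τ => Over.homMk (γ τ) (galMap_ι sk (eq τ))
  have hα' : ∀ g, ∃ α : a.obj (Over.mk (π g)) ⟶ x.obj (Over.mk (gι sk L)),
      𝒳.p.IsHomLift (𝟙 TL) α ∧ α ≫ x.map (mX g⁻¹) = a.map (mA g) ≫ ρ₀ := by
    intro g
    haveI : 𝒳.p.IsHomLift (γ g⁻¹) (x.map (mX g⁻¹)) := lift_map x (mX g⁻¹)
    haveI : 𝒳.p.IsStronglyCartesian (γ g⁻¹) (x.map (mX g⁻¹)) :=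
      FibLib.isStronglyCartesian_of_isFibGrpd (p := 𝒳.p) _ _
    haveI : 𝒳.p.IsHomLift (γ g⁻¹) (a.map (mA g) ≫ ρ₀) :=
      GerbeLib.isHomLift_comp_id _ _ _ _ (lift_map a (mA g) : 𝒳.p.IsHomLift (γ g⁻¹) (a.map (mA g))) hρ₀
    exact ⟨IsStronglyCartesian.map 𝒳.p (γ g⁻¹) (x.map (mX g⁻¹)) (g := 𝟙 TL) (f' := γ g⁻¹)
        (Category.id_comp _).symm (a.map (mA g) ≫ ρ₀),
      IsStronglyCartesian.map_isHomLift 𝒳.p (γ g⁻¹) (x.map (mX g⁻¹)) (g := 𝟙 TL) (f' := γ g⁻¹)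
        (Category.id_comp _).symm (a.map (mA g) ≫ ρ₀),
      IsStronglyCartesian.fac 𝒳.p (γ g⁻¹) (x.map (mX g⁻¹)) (g := 𝟙 TL) (f' := γ g⁻¹)
        (Category.id_comp _).symm (a.map (mA g) ≫ ρ₀)⟩
  choose α hαl hα using hα'
  have hαγ : ∀ τ g (m : Over.mk (π (g * τ⁻¹)) ⟶ Over.mk (π g)), m.left = γ τ →
      a.map m ≫ α g = α (g * τ⁻¹) ≫ x.map (mX τ) := by
    intro τ g m hm
    haveI : 𝒳.p.IsHomLift (γ g⁻¹) (x.map (mX g⁻¹)) := lift_map x (mX g⁻¹)
    haveI : 𝒳.p.IsStronglyCartesian (γ g⁻¹) (x.map (mX g⁻¹)) :=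
      FibLib.isStronglyCartesian_of_isFibGrpd (p := 𝒳.p) _ _
    haveI : 𝒳.p.IsHomLift (γ τ) (a.map m ≫ α g) :=
      GerbeLib.isHomLift_comp_id _ _ _ _ (hm ▸ lift_map a m) (hαl g)
    haveI : 𝒳.p.IsHomLift (γ τ) (α (g * τ⁻¹) ≫ x.map (mX τ)) :=
      GerbeLib.isHomLift_id_comp _ _ _ _ (hαl _) (lift_map x (mX τ) : 𝒳.p.IsHomLift (γ τ) (x.map (mX τ)))
    refine IsStronglyCartesian.ext 𝒳.p (γ g⁻¹) (x.map (mX g⁻¹)) (γ τ) ?_
    rw [Category.assoc, hα, Category.assoc, ← x.toFunctor.map_comp, ← Category.assoc, ← a.toFunctor.map_comp]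
    have h1 : m ≫ mA g = mA (g * τ⁻¹) := Over.OverMorphism.ext (by
      change m.left ≫ γ g⁻¹ = γ (g * τ⁻¹)⁻¹
      rw [hm, γ_mul, mul_inv_rev, inv_inv])
    have h2 : mX τ ≫ mX g⁻¹ = mX (g * τ⁻¹)⁻¹ := Over.OverMorphism.ext (by
      change γ τ ≫ γ g⁻¹ = γ (g * τ⁻¹)⁻¹
      rw [γ_mul, mul_inv_rev, inv_inv])
    exact ((congrArg (fun q => q ≫ ρ₀) (congrArg a.map h1)).trans (hα _).symm).trans
      (congrArg (fun q => α (g * τ⁻¹) ≫ q) (congrArg x.map h2).symm)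
  haveI : ∀ g, IsIso (α g) := fun g => by
    haveI := hαl g
    exact isIso_of_isHomLift (p := 𝒳.p) (𝟙 TL) _
  let β : ∀ g h, a.obj (Over.mk (π g)) ⟶ a.obj (Over.mk (π h)) := fun g h => α g ≫ inv (α h)
  have hβ : ∀ g h, 𝒳.p.IsHomLift (𝟙 TL) (β g h) := fun g h => by
    haveI : 𝒳.p.IsHomLift (𝟙 TL) (asIso (α h)).hom := hαl h
    exact GerbeLib.isHomLift_id_comp _ _ _ _ (hαl g)
      (IsHomLift.lift_id_inv 𝒳.p TL (asIso (α h)) : 𝒳.p.IsHomLift (𝟙 TL) (asIso (α h)).inv)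
  have hβγ : ∀ τ g h (mg : Over.mk (π (g * τ⁻¹)) ⟶ Over.mk (π g)) (mh : Over.mk (π (h * τ⁻¹)) ⟶ Over.mk (π h)),
      mg.left = γ τ → mh.left = γ τ → β (g * τ⁻¹) (h * τ⁻¹) ≫ a.map mh = a.map mg ≫ β g h := by
    intro τ g h mg mh hmg hmh
    simp only [β]
    rw [← cancel_mono (α h)]
    simp only [Category.assoc, IsIso.inv_hom_id, Category.comp_id]
    rw [hαγ τ h mh hmh, hαγ τ g mg hmg, IsIso.inv_hom_id_assoc]
  -- equivariant lifts to the chart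
  choose e₀ he₀ using fun m : G => hlift L _ (pt a C (π 1) (π m) (β m 1) (hβ m 1))
  let e : G → G → (TL ⟶ E) := fun g h => γ h⁻¹ ≫ e₀ (g * h⁻¹)
  have heγ : ∀ τ g h, γ τ ≫ e g h = e (g * τ⁻¹) (h * τ⁻¹) := fun τ g h => by
    simp only [e, ← Category.assoc, γ_mul, mul_inv_rev, inv_inv, mul_assoc, inv_mul_cancel_left]
  have he : ∀ g h, (yon S).map (e g h) ≫ p = pt a C (π h) (π g) (β g h) (hβ g h) := by
    intro g h
    simp only [e, Functor.map_comp, Category.assoc, he₀]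
    have key : ∀ g' h' : G, g' = g → h' = h →
        ∀ (mg : Over.mk (π g') ⟶ Over.mk (π (g * h⁻¹))) (mh : Over.mk (π h') ⟶ Over.mk (π 1)),
        mg.left = γ h⁻¹ → mh.left = γ h⁻¹ → β g' h' ≫ a.map mh = a.map mg ≫ β (g * h⁻¹) 1 →
        (yon S).map (γ h⁻¹) ≫ pt a C (π 1) (π (g * h⁻¹)) (β (g * h⁻¹) 1) (hβ _ _) =
          pt a C (π h) (π g) (β g h) (hβ g h) := by
      rintro _ _ rfl rfl mg mh hmg hmh e
      exact pt_map a C _ (hβ _ _) (hβ _ _) mg hmg mh hmh e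
    let mg : Over.mk (π (g * h⁻¹ * h⁻¹⁻¹)) ⟶ Over.mk (π (g * h⁻¹)) := Over.homMk (γ h⁻¹) (hπ _ _)
    let mh : Over.mk (π (1 * h⁻¹⁻¹)) ⟶ Over.mk (π 1) := Over.homMk (γ h⁻¹) (hπ _ _)
    exact key _ _ (by group) (by group) mg mh rfl rfl (hβγ h⁻¹ (g * h⁻¹) 1 mg mh rfl rfl)
  -- distinct labels from a primitive element
  obtain ⟨θ₀, hθ₀⟩ := Field.exists_primitive_element k L
  let ΓL := (Scheme.ΓSpecIso (CommRingCat.of L)).inv
  let v : G → Γ(TL.left, ⊤) := fun g => ΓL (eq g⁻¹ θ₀)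
  have hv : ∀ g h, g ≠ h → IsUnit (v g - v h) := fun g h hgh => by
    change IsUnit (ΓL.hom (eq g⁻¹ θ₀) - ΓL.hom (eq h⁻¹ θ₀))
    rw [← map_sub]
    refine IsUnit.map ΓL.hom (isUnit_iff_ne_zero.2 (sub_ne_zero.2 fun h' => hgh ?_))
    refine inv_injective (eq.injective (AlgEquiv.coe_algHom_injective ?_))
    refine AlgHom.ext_of_adjoin_eq_top (s := {θ₀}) ?_ fun z hz => by
      rw [Set.mem_singleton_iff.1 hz]; exact h'
    rw [← IntermediateField.adjoin_simple_toSubalgebra_of_isAlgebraic (Algebra.IsAlgebraic.isAlgebraic θ₀), hθ₀]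
    rfl
  obtain ⟨c, hc⟩ := exists_conf (T := TL) v hv
  have hvγ : ∀ τ g, (γ τ).left.appTop (v g) = v (g * τ⁻¹) := fun τ g => by
    simp only [v, mul_inv_rev, inv_inv, map_mul, AlgEquiv.mul_apply]
    exact (congrArg (fun q => q.hom (eq g⁻¹ θ₀))
      (Scheme.ΓSpecIso_inv_naturality (CommRingCat.ofHom (eq τ : L →+* L)))).symm
  let Γ' : Graph a C p G TL :=
    { π := π
      β := β
      β_lift := hβ
      mul := fun g h i => by simp [β]
      e := e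
      he := he
      c := c }
  obtain ⟨l, ⟨hle, hlc⟩, -⟩ := A.univ TL Γ'
  have hequiv : ∀ τ, γ τ ≫ l = l ≫ (A.ρ τ⁻¹).hom := by
    intro τ
    refine (A.univ TL (Γ'.shift τ⁻¹ (γ τ ≫ c))).unique ⟨fun g h => ?_, ?_⟩ ⟨fun g h => ?_, ?_⟩
    · rw [Category.assoc, hle]; exact heγ τ g h
    · rw [Category.assoc, hlc]; rfl
    · rw [Category.assoc, A.ρ_e, hle]; rfl
    · refine conf_ext fun g => ?_
      change _ = confVal (γ τ ≫ c) g
      rw [Category.assoc, confVal_comp, A.ρ_c, ← confVal_comp, hlc, hc, confVal_comp, hc, hvγ]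
  have hlπ := A.Γ.compat Γ' l hle
  let lD : TL ⟶ A.D.W := l ≫ A.eW.inv
  have hlD : lD ≫ A.eW.hom = l := by simp [lD]
  let σ : A.D.G → (TL ⟶ TL) := fun g => γ (A.eG g)⁻¹
  have hσl : ∀ g, σ g ≫ lD = lD ≫ (A.D.ρ g).hom := fun g => by
    rw [← cancel_mono A.eW.hom]
    simp only [Category.assoc, hlD, A.D_ρ]
    rw [← Category.assoc lD, hlD, hequiv, inv_inv]
  have hπD : ∀ g, lD ≫ A.D.π g = π (A.eG g) := fun g => by
    rw [A.D_π, ← Category.assoc, hlD]; exact hlπ.1 _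
  refine ⟨lD, σ, fun g => galMap_ι sk _, fun K _ _ x y e => ?_, hσl, cs a ((hπD 1).trans (by rw [map_one])) ≫ α 1,
    GerbeLib.isHomLift_id_comp _ _ _ _ (cs_lift a _) (hαl 1), fun g m kx hm hkx => ?_⟩
  · obtain ⟨f, hf⟩ := galMap_transitive sk K x y e
    refine ⟨A.eG.symm (eq.symm f)⁻¹, ?_⟩
    simp only [σ, γ, MulEquiv.apply_symm_apply, inv_inv]
    exact hf
  have e1 : lD ≫ A.D.π 1 = π 1 := (hπD 1).trans (by rw [map_one])
  have key : A.D.θ g lD ≫ cs a (hπD g) = cs a e1 ≫ β 1 (A.eG g) := by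
    let kx₀ : Over.mk (lD ≫ A.D.π g) ⟶ Over.mk (A.Γ.π (A.eG g)) := Over.homMk l (by
      change l ≫ A.Γ.π _ = lD ≫ A.D.π g
      rw [hπD]; exact hlπ.1 _)
    let ky₀ : Over.mk (lD ≫ A.D.π 1) ⟶ Over.mk (A.Γ.π 1) := Over.homMk l (by
      change l ≫ A.Γ.π _ = lD ≫ A.D.π 1
      rw [e1]; exact hlπ.1 _)
    let kg : Over.mk (π (A.eG g)) ⟶ Over.mk (A.Γ.π (A.eG g)) := Over.homMk l (hlπ.1 _)
    let k1 : Over.mk (π 1) ⟶ Over.mk (A.Γ.π 1) := Over.homMk l (hlπ.1 _)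
    refine vert_inj a kg rfl (GerbeLib.isHomLift_id_comp _ _ _ _ (A.D.θ_lift g lD) (cs_lift a _))
      (GerbeLib.isHomLift_id_comp _ _ _ _ (cs_lift a _) (hβ 1 (A.eG g))) ?_
    have h1 : cs a (hπD g) ≫ a.map kg = a.map kx₀ := by
      rw [cs, ← a.toFunctor.map_comp]; exact map_congr a (Category.id_comp _)
    have h2 : cs a e1 ≫ a.map k1 = a.map ky₀ := by
      rw [cs, ← a.toFunctor.map_comp]; exact map_congr a (Category.id_comp _)
    refine (Category.assoc _ _ _).trans ((congrArg (fun q => A.D.θ g lD ≫ q) h1).trans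
      ((A.D_θ g lD kx₀ ky₀ hlD.symm hlD.symm).trans ?_))
    refine Eq.trans ?_ ((Category.assoc _ _ _).trans
      (congrArg (fun q => cs a e1 ≫ q) (hlπ.2 1 (A.eG g) k1 kg rfl rfl))).symm
    exact (congrArg (fun q => q ≫ A.Γ.β 1 (A.eG g)) h2.symm).trans (Category.assoc _ _ _)
  let m₁ : Over.mk (π (A.eG g)) ⟶ Over.mk u := mA (A.eG g)
  have h3 : a.map m ≫ cs a e1 ≫ α 1 = cs a (hπD g) ≫ α (A.eG g) ≫ x.map kx := by
    let m₂ : Over.mk (π (1 * (A.eG g)⁻¹⁻¹)) ⟶ Over.mk (π 1) := Over.homMk (γ (A.eG g)⁻¹) (hπ _ _)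
    have hh := hαγ (A.eG g)⁻¹ 1 m₂ rfl
    have key2 : ∀ g' (mm : Over.mk (π g') ⟶ Over.mk (π 1)), g' = A.eG g → mm.left = γ (A.eG g)⁻¹ →
        a.map mm ≫ α 1 = α g' ≫ x.map (mX (A.eG g)⁻¹) →
        a.map m ≫ cs a e1 ≫ α 1 = cs a (hπD g) ≫ α (A.eG g) ≫ x.map kx := by
      rintro _ mm rfl hmm h
      rw [show kx = mX (A.eG g)⁻¹ from Over.OverMorphism.ext hkx, ← h, ← Category.assoc, ← Category.assoc]
      congr 1
      rw [cs, cs, ← a.toFunctor.map_comp, ← a.toFunctor.map_comp]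
      refine map_congr a ?_
      change m.left ≫ 𝟙 _ = 𝟙 _ ≫ mm.left
      rw [hm, hmm, Category.comp_id, Category.id_comp]
    exact key2 _ m₂ (by group) rfl hh
  refine (congrArg (fun q => A.D.θ g lD ≫ q) h3).trans ?_
  refine (Category.assoc _ _ _).symm.trans ((congrArg (fun q => q ≫ α (A.eG g) ≫ x.map kx) key).trans ?_)
  refine (Category.assoc _ _ _).trans (Eq.trans ?_ (Category.assoc _ _ _).symm)
  refine congrArg (fun q => cs a e1 ≫ q) ?_
  simp [β]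

end StackSecLib
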