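import Groth.Agent.StackSecLib.Code
import Groth.Agent.EtSectLib.Main
import Groth.Agent.AlgSpLib.Iso
import Groth.Agent.AlgStLib.Rows5
import Groth.Agent.AlgStLib.PointsQc
import Mathlib.RingTheory.Etale.Field
import Mathlib.FieldTheory.Galois.Basic
import Mathlib.FieldTheory.IsSepClosed

/-!
# Points of a stack over a field lift to a smooth atlas over a finite Galois extension
-/

set_option autoImplicit false
set_option backward.isDefEq.respectTransparency false
set_option backward.isDefEq.respectTransparency.types false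

universe u

open CategoryTheory CategoryTheory.Limits AlgebraicGeometry AlgSp FibCat FibLib IsoNatLib AlgSpLib
open CategoryTheory.Functor (Fiber IsStronglyCartesian)

noncomputable section

namespace StackSecLib

variable {S : Scheme.{u}} {k : Type u} [Field k] (sk : Spec (CommRingCat.of k) ⟶ S)
  (L : Type u) [Field L] [Algebra k L]

/-- The spectrum of an extension field over the base. -/
abbrev gObj : Over S := Over.mk (Spec.map (CommRingCat.ofHom (algebraMap k L)) ≫ sk)

/-- The map from the spectrum of an extension field. -/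
abbrev gι : gObj sk L ⟶ Over.mk sk := Over.homMk (Spec.map (CommRingCat.ofHom (algebraMap k L))) rfl

variable {sk L}

/-- A scheme etale over a field has a point in a finite separable extension over each non-empty piece. -/
theorem exists_separable_point {Y : Scheme.{u}} (g : Y ⟶ Spec (CommRingCat.of k)) [Etale g] (y : Y) :
    ∃ (K : Type u) (_ : Field K) (_ : Algebra k K) (_ : FiniteDimensional k K) (_ : Algebra.IsSeparable k K)
      (j : Spec (CommRingCat.of K) ⟶ Y), j ≫ g = Spec.map (CommRingCat.ofHom (algebraMap k K)) := by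
  obtain ⟨V, hV, hyV, -⟩ :=
    TopologicalSpace.Opens.isBasis_iff_nbhd.1 Y.isBasis_affineOpens (show y ∈ (⊤ : Y.Opens) from trivial)
  obtain ⟨ψ, hψ⟩ := Spec.map_surjective (R := CommRingCat.of k) (hV.fromSpec ≫ g)
  letI := ψ.hom.toAlgebra
  haveI : Etale (Spec.map ψ) := by rw [hψ]; infer_instance
  haveI : Algebra.Etale k Γ(Y, V) :=
    RingHom.etale_algebraMap.1 ((HasRingHomProperty.Spec_iff (P := @Etale)).1 ‹Etale (Spec.map ψ)›)
  obtain ⟨I, hI, Ai, hf, ha, e, hsep⟩ :=
    (Algebra.FormallyEtale.iff_exists_algEquiv_prod (K := k) (A := Γ(Y, V))).1 inferInstance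
  haveI : Nontrivial Γ(Y, V) := PrimeSpectrum.nontrivial (hV.primeIdealOf ⟨y, hyV⟩)
  haveI : Nonempty I := not_isEmpty_iff.1 fun h =>
    not_subsingleton Γ(Y, V) (@id (Subsingleton Γ(Y, V)) e.toEquiv.subsingleton)
  let i := Classical.arbitrary I
  let π : Γ(Y, V) →ₐ[k] Ai i := (Pi.evalAlgHom k Ai i).comp e.toAlgHom
  have hπ : Function.Surjective π := (Function.surjective_eval i).comp e.surjective
  haveI : Algebra.FiniteType k (Ai i) := Algebra.FiniteType.of_surjective π hπ
  haveI := hsep i
  haveI : Module.Finite k (Ai i) := finite_of_finite_type_of_isJacobsonRing k (Ai i)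
  refine ⟨Ai i, hf i, ha i, inferInstance, hsep i,
    Spec.map (CommRingCat.ofHom π.toRingHom) ≫ hV.fromSpec, ?_⟩
  rw [Category.assoc, ← hψ, ← Spec.map_comp]
  exact congrArg Spec.map (CommRingCat.hom_ext π.comp_algebraMap)

variable {𝒳 : AlgSt.Cat S} [IsFibGrpd 𝒳.p] {U : Over S} (a : overCat U ⥤ᵇ 𝒳)

/-- A point over a field lifts to a smooth surjective atlas over a finite Galois extension. -/
theorem exists_galois_lift (hsm : AlgSt.RepByAlgSpWith (LocP @Smooth) a)
    (hsurj : AlgSt.RepByAlgSpWith IsSurjectiveMor a) (sk : Spec (CommRingCat.of k) ⟶ S)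
    (x : overCat (Over.mk sk) ⥤ᵇ 𝒳) :
    ∃ (L : Type u) (_ : Field L) (_ : Algebra k L) (_ : FiniteDimensional k L) (_ : IsGalois k L)
      (u : gObj sk L ⟶ U) (ρ : a.obj (Over.mk u) ⟶ x.obj (Over.mk (gι sk L))),
      𝒳.p.IsHomLift (𝟙 (gObj sk L)) ρ := by
  let zx : 𝒳.p.Fiber (Over.mk sk) := Fiber.mk (p := 𝒳.p) (a := x.obj (Over.mk (𝟙 _))) (x.w_obj _)
  obtain ⟨H, pr, hH, ⟨hpr, hprs⟩, -, ⟨C⟩⟩ := exists_classifier
    (AlgStLib.repByAlgSpWith_inf AlgStLib.good_surjective.bc.precomp_iso hsm hsurj) zx
  obtain ⟨U', q, hq, hqs⟩ := hH.atlas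
  obtain ⟨m, hm⟩ := (yon S).map_surjective (q ≫ pr)
  haveI : Smooth m.left := hpr q (𝟙 _) m hq (AlgSp.repWith_id _ _) (by rw [Category.comp_id, hm])
  haveI : Surjective m.left := by
    have hsur : Function.Surjective (Points.map ((yon S).map m)) := by
      rw [hm, show Points.map (q ≫ pr) = Points.map pr ∘ Points.map q from funext (Points.map_comp q pr)]
      exact hprs.comp (map_surjective_of_repWith hqs)
    rw [Points.map_yon_map_eq] at hsur
    exact ⟨(Function.Surjective.of_comp_left hsur (Points.schemeHomeo (Over.mk sk)).injective).of_comp⟩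
  obtain ⟨S', g, s', hg, -, h, hh⟩ := EtSectLib.exists_section m.left (IsLocalRing.closedPoint k)
    (m.left.surjective _)
  haveI := hg
  obtain ⟨K, _, _, _, _, j, hj⟩ := exists_separable_point g s'
  let φ : K →ₐ[k] SeparableClosure k := IsSepClosed.lift
  letI := φ.toRingHom.toAlgebra
  haveI : IsScalarTower k K (SeparableClosure k) := IsScalarTower.of_algebraMap_eq fun r => (φ.commutes r).symm
  let L : IntermediateField k (SeparableClosure k) := IntermediateField.normalClosure k K (SeparableClosure k)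
  letI : Algebra K L := inferInstance
  haveI : IsGalois k L := inferInstance
  let up : gObj sk L ⟶ U' :=
    Over.homMk (Spec.map (CommRingCat.ofHom (algebraMap K L)) ≫ j ≫ h) (by
      simp only [Category.assoc]
      rw [show h ≫ U'.hom = g ≫ sk by rw [← hh, Category.assoc]; exact congrArg (h ≫ ·) (Over.w m).symm,
        reassoc_of% hj, ← Spec.map_comp_assoc]
      exact congrArg (fun r => Spec.map r ≫ sk) (CommRingCat.hom_ext (IsScalarTower.algebraMap_eq k K L).symm))
  have hup : up ≫ m = gι sk L := Over.OverMorphism.ext (by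
    simp only [Over.comp_left, up, Over.homMk_left, Category.assoc, hh, hj]
    rw [← Spec.map_comp]
    exact congrArg Spec.map (CommRingCat.hom_ext (IsScalarTower.algebraMap_eq k K L).symm))
  obtain ⟨E, hE⟩ := C.exists_elt ((yon S).map up ≫ q)
  obtain ⟨b, ⟨o, ho⟩, n, hn⟩ := E
  obtain ⟨T', u, rfl⟩ := o.mk_surjective
  change T' = gObj sk L at ho
  subst ho
  obtain rfl : b = gι sk L := (yon S).map_injective (by
    rw [← C.cls_comp ⟨b, _, n, hn⟩, hE, Category.assoc, ← hm, ← Functor.map_comp, hup])
  haveI := hn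
  let kt : Over.mk (gι sk L) ⟶ Over.mk (𝟙 (Over.mk sk)) := toId (Over.mk (gι sk L))
  haveI : 𝒳.p.IsHomLift (gι sk L) (x.map kt) := lift_map x kt
  haveI : 𝒳.p.IsStronglyCartesian (gι sk L) (x.map kt) :=
    FibLib.isStronglyCartesian_of_isFibGrpd (p := 𝒳.p) _ _
  exact ⟨L, inferInstance, inferInstance, inferInstance, inferInstance, u,
    IsStronglyCartesian.map 𝒳.p (gι sk L) (x.map kt) (g := 𝟙 _) (f' := gι sk L) (Category.id_comp _).symm n,
    IsStronglyCartesian.map_isHomLift 𝒳.p (gι sk L) (x.map kt) (g := 𝟙 _) (f' := gι sk L)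
      (Category.id_comp _).symm n⟩

end StackSecLib
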