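import Groth.Agent.StackSecLib.OpenCov
import Groth.Agent.BootLib.SepSigma

/-!
# Disjoint unions of charts
-/

set_option autoImplicit false
set_option backward.isDefEq.respectTransparency false
set_option backward.isDefEq.respectTransparency.types false

universe u

open CategoryTheory CategoryTheory.Limits AlgebraicGeometry AlgSp FibCat FibLib AlgSpLib AlgStLib
open CategoryTheory.Functor (IsStronglyCartesian)

noncomputable section

namespace StackSecLib

variable {S : Scheme.{u}} {𝒳 : AlgSt.Cat S} [IsFibGrpd 𝒳.p]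

/-- Lifts of a map with empty source agree. -/
lemma eq_of_isEmpty' (hst : Stk.IsStack (Jet S) 𝒳) {T T' : Over S} [IsEmpty T'.left] (m : T' ⟶ T)
    {t' t : 𝒳.obj} (f g : t' ⟶ t) (hf : 𝒳.p.IsHomLift m f) (hg : 𝒳.p.IsHomLift m g) : f = g := by
  haveI := hf; haveI := hg
  haveI : 𝒳.p.IsStronglyCartesian m g := FibLib.isStronglyCartesian_of_isFibGrpd (p := 𝒳.p) _ _
  let e := IsStronglyCartesian.map 𝒳.p m g (g := 𝟙 T') (f' := m) (Category.id_comp _).symm f
  haveI he : 𝒳.p.IsHomLift (𝟙 T') e :=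
    IsStronglyCartesian.map_isHomLift 𝒳.p m g (g := 𝟙 T') (f' := m) (Category.id_comp _).symm f
  have h1 : e ≫ g = f := IsStronglyCartesian.fac 𝒳.p m g (g := 𝟙 T') (f' := m) (Category.id_comp _).symm f
  have h2 : e = 𝟙 t' := eq_of_isEmpty (isPrestack_of_isStack hst) e (𝟙 t') he
    (IsHomLift.id (IsHomLift.domain_eq 𝒳.p m f))
  rw [← h1, h2, Category.id_comp]

/-- Objects over an empty scheme are related by vertical morphisms. -/
lemma exists_vert_of_isEmpty (hst : Stk.IsStack (Jet S) 𝒳) {T : Over S} [IsEmpty T.left]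
    (K K' : overCat T ⥤ᵇ 𝒳) :
    ∃ e : K.obj (Over.mk (𝟙 T)) ⟶ K'.obj (Over.mk (𝟙 T)), 𝒳.p.IsHomLift (𝟙 T) e := by
  have hmem : famSieve (fun i : PEmpty.{u + 1} => (i.elim : T ⟶ T)) ∈ Jet S T :=
    famSieve_mem _ (fun i => i.elim) fun z => isEmptyElim z
  obtain ⟨α, -⟩ := exists_hom_of_local ((isPrestack_of_isStack hst).2 _ hmem) K K' (fun i => i.elim)
    fun {V i j} _ _ _ _ _ => i.elim
  exact ⟨α.toNatTrans.app (Over.mk (𝟙 T)), BasedNatTrans.isHomLift α rfl⟩

/-- Charts glue on the disjoint union. -/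
theorem exists_sigma_chart (hst : Stk.IsStack (Jet S) 𝒳) (hΔ : AlgSt.RepByAlgSp1 (diag (toSelf 𝒳)))
    {ι : Type u} (Zi : ι → Over S) [∀ i, IsSeparated (Zi i).hom] (Pi : ∀ i, overCat (Zi i) ⥤ᵇ 𝒳)
    (hPi : ∀ i, AlgSt.RepByAlgSpWith (LocP @Smooth) (Pi i)) :
    ∃ (Z : Over S) (c : ∀ i, Zi i ⟶ Z) (P : overCat Z ⥤ᵇ 𝒳), IsSeparated Z.hom ∧
      AlgSt.RepByAlgSpWith (LocP @Smooth) P ∧
      ∀ i, Nonempty (BasedFunctor.comp (AlgSt.overMap (c i)) P ≅ Pi i) := by
  classical
  let F : ι → Scheme.{u} := fun i => (Zi i).left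
  let Z : Over S := Over.mk (Sigma.desc fun i : ι => (Zi i).hom)
  let c : ∀ i : ι, Zi i ⟶ Z := fun i => Over.homMk (Sigma.ι F i) (Sigma.ι_desc _ i)
  haveI hco : ∀ i, IsOpenImmersion (c i).left := fun i => inferInstanceAs (IsOpenImmersion (Sigma.ι F i))
  have hcs : ∀ t : Z.left, ∃ i s, (c i).left s = t := fun t => by
    obtain ⟨⟨i, s⟩, rfl⟩ := (sigmaMk F).surjective t
    exact ⟨i, s, (sigmaMk_mk F i s).symm⟩
  have hdec : ∀ {T : Over S} {i j : ι} (w : T ⟶ Zi i) (w' : T ⟶ Zi j), w ≫ c i = w' ≫ c j →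
      IsEmpty T.left ∨ ∃ h : i = j, w ≫ eqToHom (congrArg Zi h) = w' := by
    intro T i j w w' e
    by_cases hij : i = j
    · subst hij
      refine Or.inr ⟨rfl, ?_⟩
      rw [eqToHom_refl, Category.comp_id]
      exact Over.OverMorphism.ext ((cancel_mono (c i).left).1 (congrArg (fun t => t.left) e))
    · exact Or.inl ⟨fun t => by
        have h := congrArg (fun m : T ⟶ Z => m.left t) e
        simp only [Over.comp_left, Scheme.Hom.comp_apply] at h
        exact hij (congrArg Sigma.fst ((sigmaMk F).injective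
          (a₁ := ⟨i, w.left t⟩) (a₂ := ⟨j, w'.left t⟩) (by rw [sigmaMk_mk, sigmaMk_mk]; exact h)))⟩
  have hφ : ∀ {T : Over S} {i j : ι} (w : T ⟶ Zi i) (w' : T ⟶ Zi j) (_ : w ≫ c i = w' ≫ c j),
      ∃ φ : (Pi i).obj (Over.mk w) ⟶ (Pi j).obj (Over.mk w'), 𝒳.p.IsHomLift (𝟙 T) φ ∧
        (IsEmpty T.left ∨ ∃ (h : i = j) (he : w ≫ eqToHom (congrArg Zi h) = w'),
          φ = eqToHom (by subst h; rw [eqToHom_refl, Category.comp_id] at he; subst he; rfl)) := by
    intro T i j w w' e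
    rcases hdec w w' e with hT | ⟨rfl, he⟩
    · haveI := hT
      obtain ⟨φ, hφ⟩ := exists_vert_of_isEmpty hst (BasedFunctor.comp (AlgSt.overMap w) (Pi i))
        (BasedFunctor.comp (AlgSt.overMap w') (Pi j))
      let k : Over.mk w ⟶ Over.mk (𝟙 T ≫ w) := Over.homMk (𝟙 T) (by simp)
      let k' : Over.mk (𝟙 T ≫ w') ⟶ Over.mk w' := Over.homMk (𝟙 T) (by simp)
      exact ⟨(Pi i).map k ≫ φ ≫ (Pi j).map k', GerbeLib.isHomLift_id_comp _ _ _ _ (lift_map (Pi i) k)
        (GerbeLib.isHomLift_id_comp _ _ _ _ hφ (lift_map (Pi j) k')), Or.inl hT⟩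
    · have hw : w' = w := by rw [← he, eqToHom_refl, Category.comp_id]
      subst hw
      exact ⟨𝟙 _, IsHomLift.id ((Pi i).w_obj _), Or.inr ⟨rfl, he, rfl⟩⟩
  choose φ hφl hφe using @hφ
  let D : Datum 𝒳 c :=
    { X := Pi
      φ := fun {T i j} w w' e => φ w w' e
      φ_lift := fun {T i j} w w' e => hφl w w' e
      φ_nat := fun {T T' i j} m w w' e => by
        let km : Over.mk (m ≫ w) ⟶ Over.mk w := Over.homMk m rfl
        let km' : Over.mk (m ≫ w') ⟶ Over.mk w' := Over.homMk m rfl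
        have e' : (m ≫ w) ≫ c i = (m ≫ w') ≫ c j := by rw [Category.assoc, e, ← Category.assoc]
        rcases hφe (m ≫ w) (m ≫ w') e' with hT | ⟨h, he, h'⟩
        · haveI := hT
          exact eq_of_isEmpty' hst m _ _
            (GerbeLib.isHomLift_id_comp _ _ _ _ (hφl _ _ e') (lift_map (Pi j) km'))
            (GerbeLib.isHomLift_comp_id _ _ _ _ (lift_map (Pi i) km) (hφl w w' e))
        · rcases hφe w w' e with hT | ⟨h₀, he₀, h₀'⟩
          · haveI := hT
            haveI : IsEmpty T'.left := Function.isEmpty m.left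
            exact eq_of_isEmpty' hst m _ _
              (GerbeLib.isHomLift_id_comp _ _ _ _ (hφl _ _ e') (lift_map (Pi j) km'))
              (GerbeLib.isHomLift_comp_id _ _ _ _ (lift_map (Pi i) km) (hφl w w' e))
          · subst h₀
            have hw : w' = w := by rw [← he₀, eqToHom_refl, Category.comp_id]
            subst hw
            rw [h', h₀', eqToHom_refl, eqToHom_refl, Category.id_comp, Category.comp_id]
      φ_trans := fun {T i j k} w w' w'' e e' => by
        rcases hφe w w'' (e.trans e') with hT | ⟨h, he, h'⟩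
        · haveI := hT
          exact eq_of_isEmpty (isPrestack_of_isStack hst) _ _
            (GerbeLib.isHomLift_id_comp _ _ _ _ (hφl w w' e) (hφl w' w'' e')) (hφl _ _ _)
        · rcases hφe w w' e with hT | ⟨h₁, he₁, h₁'⟩
          · haveI := hT
            exact eq_of_isEmpty (isPrestack_of_isStack hst) _ _
              (GerbeLib.isHomLift_id_comp _ _ _ _ (hφl w w' e) (hφl w' w'' e')) (hφl _ _ _)
          · rcases hφe w' w'' e' with hT | ⟨h₂, he₂, h₂'⟩
            · haveI := hT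
              exact eq_of_isEmpty (isPrestack_of_isStack hst) _ _
                (GerbeLib.isHomLift_id_comp _ _ _ _ (hφl w w' e) (hφl w' w'' e')) (hφl _ _ _)
            · rw [h', h₁', h₂', eqToHom_trans] }
  have hmem : famSieve c ∈ Jet S Z := famSieve_mem c (fun i => inferInstance) fun t => hcs t
  obtain ⟨P, ψ, -⟩ := D.exists_desc (hst.2 _ hmem)
  refine ⟨Z, c, P, Groth.Agent.Boot.isSeparated_sigmaDesc _, ?_, fun i => ⟨ψ i⟩⟩
  exact repByAlgSpWith_smooth_of_open_cover c hcs (repByAlgSp1_diag_iff.mp hΔ Z P) fun i =>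
    repByAlgSpWith_congr (ψ i).symm (hPi i)

end StackSecLib
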