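import Groth.Agent.StackSecLib.Frob
import Groth.Agent.StackSecLib.Glue
import Groth.Agent.MultiSecLib.Smooth
import Groth.Agent.EtCritLib.Basic
import Groth.Agent.AlgStLib.SmLoc

/-!
# Separated smooth charts of a stack through which all points over Henselian local rings factor
-/

set_option autoImplicit false
set_option backward.isDefEq.respectTransparency false
set_option backward.isDefEq.respectTransparency.types false

universe u

open CategoryTheory CategoryTheory.Limits AlgebraicGeometry AlgSp FibCat FibLib AlgSpLib AlgStLib IsoNatLib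
open CategoryTheory.Functor (Fiber IsStronglyCartesian)

noncomputable section

namespace StackSecLib

variable {S : Scheme.{u}} {𝒳 : AlgSt.Cat S}

/-- A stack for the fppf topology is a stack for the etale topology. -/
lemma isStack_et_of_fppf (h : Stk.IsStack (QuotSh.J Scheme.fppfPrecoverage S) 𝒳) : Stk.IsStack (Jet S) 𝒳 := by
  refine ⟨h.1, fun U R hR => h.2 R ?_⟩
  exact EtCritLib.etJ_le _ hR

/-- A smooth chart of the base is smooth over the base. -/
theorem smooth_hom_of_selfOver {V : Over S} (y : overCat V ⥤ᵇ selfOver (Over S))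
    (hy : AlgSt.RepByAlgSpWith (LocP @Smooth) y) : Smooth V.hom := by
  let T : Over S := Over.mk (𝟙 S)
  haveI : (FibCat.toSelf (overCat T)).toFunctor.Faithful := ⟨fun {a b f g} h => Over.OverMorphism.ext h⟩
  let m : V ⟶ T := Over.homMk V.hom (Category.comp_id _)
  obtain ⟨α⟩ := nonempty_iso_selfOver (BasedFunctor.comp (AlgSt.overMap m) (FibCat.toSelf (overCat T))) y
  haveI : (FibCat.toSelf (overCat T)).toFunctor.Full := ⟨fun {a b} f => by
    refine ⟨Over.homMk f ?_, rfl⟩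
    apply Over.OverMorphism.ext
    have h1 := Over.w a.hom
    have h2 := Over.w b.hom
    have h3 := Over.w f
    change f.left ≫ b.hom.left = a.hom.left
    have ha : a.hom.left = a.left.hom := by simpa [T] using h1
    have hb : b.hom.left = b.left.hom := by simpa [T] using h2
    rw [ha, hb]
    exact h3⟩
  have hT : IsEquivOver (FibCat.toSelf (overCat T)) := by
    refine isEquivOver_of_vertEssSurj _ fun W =>
      ⟨Over.mk (Over.homMk W.hom (Category.comp_id _) : W ⟶ T), Iso.refl _, IsHomLift.id rfl⟩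
  have h' : AlgSt.RepByAlgSpWith (LocP @Smooth) (AlgSt.overMap m) :=
    (repByAlgSpWith_square_iff (f := y) (f' := AlgSt.overMap m) (a := BasedFunctor.id _)
      (b := FibCat.toSelf (overCat T)) (isEquivOver_id _) hT α _).mp hy
  have h'' : AlgSt.RepByAlgSpWith (LocP @Smooth) (AlgSt.ofSpMap ((yon S).map m)) :=
    (repByAlgSpWith_square_iff (f := AlgSt.overMap m) (f' := AlgSt.ofSpMap ((yon S).map m))
      (a := AlgSt.toOverCat V) (b := AlgSt.toOverCat T) (isEquivOver_toOverCat V) (isEquivOver_toOverCat T)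
      (Iso.refl _) _).mp h'
  obtain ⟨H, b, hH, hb, hPb⟩ := (repByAlgSpWith_iff _ _).mp h'' T (AlgSt.ofSpMap (𝟙 ((yon S).obj T)))
  have h0 : Along (AlgSt.ofSpMap (𝟙 ((yon S).obj T))) (AlgSt.ofSpMap ((yon S).map m)) ((yon S).map m).hom :=
    along_ofPshMap (isPullback_sheaf (IsPullback.id_horiz ((yon S).map m)))
  obtain ⟨i, hi⟩ := along_hom_unique h0 hb
  have h2 : LocP @Smooth ((yon S).map m) := by
    rw [← hi]; exact (good_locP _).bc.precomp_iso i b hH (IsAlgSpace.yon_obj T) hPb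
  exact locP_yon_map h2

variable [IsFibGrpd 𝒳.p]

/-- Restrictions compose. -/
lemma nonempty_iso_restrict {Y Z Z' : Over S} (g' : Y ⟶ Z') (c : Z' ⟶ Z) {g : Y ⟶ Z} (h : g' ≫ c = g)
    (P : overCat Z ⥤ᵇ 𝒳) :
    Nonempty (BasedFunctor.comp (AlgSt.overMap g') (BasedFunctor.comp (AlgSt.overMap c) P) ≅
      BasedFunctor.comp (AlgSt.overMap g) P) := by
  let k : Over.mk ((𝟙 Y ≫ g') ≫ c) ⟶ Over.mk (𝟙 Y ≫ g) := Over.homMk (𝟙 Y) (by simp [h])
  let β : (BasedFunctor.comp (AlgSt.overMap g') (BasedFunctor.comp (AlgSt.overMap c) P)).obj (Over.mk (𝟙 Y)) ⟶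
      (BasedFunctor.comp (AlgSt.overMap g) P).obj (Over.mk (𝟙 Y)) := P.map k
  haveI : 𝒳.p.IsHomLift (𝟙 Y) β := lift_map P k
  let Φ := natTransOfId
    (preservesStronglyCartesian_of_isFibGrpd (BasedFunctor.comp (AlgSt.overMap g) P)) β
  haveI : IsIso Φ := isIso_bnt Φ
  exact ⟨asIso Φ⟩

/-- A lift of the special point of a point over a Henselian local ring to a smooth chart extends. -/
theorem exists_henselian_lift {Z : Over S} {P : overCat Z ⥤ᵇ 𝒳} (hP : AlgSt.RepByAlgSpWith (LocP @Smooth) P)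
    (A : Type u) [CommRing A] [HenselianLocalRing A] (str : Spec (CommRingCat.of A) ⟶ S)
    (z : overCat (Over.mk str) ⥤ᵇ 𝒳) (I : Ideal A) (hI : I ≠ ⊤)
    {Y₀ : Over S} {j : Y₀ ⟶ Over.mk str} (e₀ : Y₀.left = Spec (CommRingCat.of (A ⧸ I)))
    (hj : eqToHom e₀.symm ≫ j.left = Spec.map (CommRingCat.ofHom (Ideal.Quotient.mk I)))
    (g₀ : Y₀ ⟶ Z) (h₀ : Nonempty (BasedFunctor.comp (AlgSt.overMap g₀) P ≅ BasedFunctor.comp (AlgSt.overMap j) z)) :
    ∃ g : Over.mk str ⟶ Z, Nonempty (BasedFunctor.comp (AlgSt.overMap g) P ≅ z) := by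
  obtain ⟨Φ₀⟩ := h₀
  let Y : Over S := Over.mk str
  let zz : 𝒳.p.Fiber Y := Fiber.mk (p := 𝒳.p) (a := z.obj (Over.mk (𝟙 Y))) (z.w_obj _)
  obtain ⟨H, pr, hH, hpr, -, ⟨C⟩⟩ := exists_classifier hP zz
  let o₀ : Over Z := Over.mk (𝟙 Y₀ ≫ g₀)
  let φ₀ : P.obj o₀ ⟶ z.obj (Over.mk (𝟙 Y₀ ≫ j)) := Φ₀.hom.toNatTrans.app (Over.mk (𝟙 Y₀))
  have hφ₀ : 𝒳.p.IsHomLift (𝟙 Y₀) φ₀ := BasedNatTrans.isHomLift _ rfl
  let k₀ : Over.mk (𝟙 Y₀ ≫ j) ⟶ Over.mk (𝟙 Y) := Over.homMk j (by simp)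
  let E₀ : Elt P zz Y₀ := ⟨j, Fiber.mk (p := (overCat Z).p) (a := o₀) rfl, φ₀ ≫ z.map k₀,
    GerbeLib.isHomLift_id_comp _ _ _ _ hφ₀ (lift_map z k₀ : 𝒳.p.IsHomLift j (z.map k₀))⟩
  obtain ⟨s, hs, -⟩ := MultiSecLib.exists_space_lift A I hI str e₀ hj hH hpr (C.cls E₀) (C.cls_comp E₀)
  obtain ⟨E, hE⟩ := C.exists_elt s
  obtain ⟨b, ⟨o, ho⟩, n, hn⟩ := E
  obtain ⟨T', g, rfl⟩ := o.mk_surjective
  change T' = Y at ho
  subst ho
  obtain rfl : b = 𝟙 Y := (yon S).map_injective (by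
    rw [← C.cls_comp ⟨b, _, n, hn⟩, hE, hs, CategoryTheory.Functor.map_id])
  let k : Over.mk (𝟙 Y ≫ g) ⟶ Over.mk g := Over.homMk (𝟙 Y) rfl
  let β : (BasedFunctor.comp (AlgSt.overMap g) P).obj (Over.mk (𝟙 Y)) ⟶ z.obj (Over.mk (𝟙 Y)) := P.map k ≫ n
  haveI : 𝒳.p.IsHomLift (𝟙 Y) β :=
    GerbeLib.isHomLift_id_comp _ _ _ _ (lift_map P k : 𝒳.p.IsHomLift (𝟙 Y) (P.map k)) hn
  let Φ := natTransOfId (preservesStronglyCartesian_of_isFibGrpd z) β
  haveI : IsIso Φ := isIso_bnt Φ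
  exact ⟨g, ⟨asIso Φ⟩⟩

/-- The data of a stack with an atlas needed for the constructions. -/
theorem exists_field_charts (hst : Stk.IsStack (Jet S) 𝒳) (hΔ : AlgSt.RepByAlgSp1 (diag (toSelf 𝒳)))
    {U : Over S} {a : overCat U ⥤ᵇ 𝒳} (hsm : AlgSt.RepByAlgSpWith (LocP @Smooth) a)
    (hsurj : AlgSt.RepByAlgSpWith IsSurjectiveMor a) :
    ∃ (ι : Type u) (Z : ι → Over S) (P : ∀ i, overCat (Z i) ⥤ᵇ 𝒳),
      (∀ i, IsAffine (Z i).left) ∧ (∀ i, AlgSt.RepByAlgSpWith (LocP @Smooth) (P i)) ∧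
      (Smooth U.hom → ∀ i, Smooth (Z i).hom) ∧
      ∀ (k : Type u) [Field k] (sk : Spec (CommRingCat.of k) ⟶ S) (x : overCat (Over.mk sk) ⥤ᵇ 𝒳),
        ∃ (i : ι) (g : Over.mk sk ⟶ Z i), Nonempty (BasedFunctor.comp (AlgSt.overMap g) (P i) ≅ x) := by
  obtain ⟨H, pr, hH, hpr, -, ⟨C⟩⟩ := exists_classifier hsm (zU a)
  obtain ⟨E, p, -, hp, hplift⟩ := MultiSecLib.exists_separated_chart hH
  let Ix : Type u := Σ n : ℕ, Group (ULift.{u} (Fin n))
  let A : ∀ i : Ix, (letI := i.2; GraphAct a C p (ULift.{u} (Fin i.1))) := fun i =>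
    letI := i.2; (nonempty_graphAct a C p (ULift.{u} (Fin i.1)) hpr hp).some
  let D : Ix → TwistAct a := fun i => letI := i.2; (A i).D
  have hDπ : ∀ i, Smooth ((D i).π 1).left := fun i => letI := i.2; (A i).smooth_π
  have hchart := fun i => MultiSecLib.exists_separated_chart (D i).isAlgSpace_Q
  choose ZQ q hZQ hq hqlift using hchart
  have hP := fun i => (D i).exists_chart hst hΔ hsm (hDπ i) (q i) (hq i)
  choose P hPsm hPlift using hP
  let ι : Type u := Σ i : Ix, (ZQ i).left.affineOpens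
  let Z : ι → Over S := fun t => Over.mk (t.2.1.ι ≫ (ZQ t.1).hom)
  let c : ∀ t : ι, Z t ⟶ ZQ t.1 := fun t => Over.homMk t.2.1.ι rfl
  haveI : ∀ t, IsOpenImmersion (c t).left := fun t => inferInstanceAs (IsOpenImmersion t.2.1.ι)
  refine ⟨ι, Z, fun t => BasedFunctor.comp (AlgSt.overMap (c t)) (P t.1), fun t => t.2.2,
    fun t => repByAlgSpWith_smooth_restrict (c t) (hPsm t.1), fun hU t => ?_, fun k _ sk x => ?_⟩
  · haveI := hU
    haveI := hDπ t.1
    haveI : Smooth (D t.1).W.hom := by rw [← Over.w ((D t.1).π 1)]; infer_instance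
    obtain ⟨O, fst, snd, sq⟩ := exists_isPullback_yon (D t.1).qπ (q t.1) (D t.1).isPresentation.etale.rep
    haveI : Etale snd.left := (repWith_yon_map_iff (P := (@Etale : MorphismProperty Scheme.{u})) snd).1
      (repWith_of_isPullback sq (D t.1).isPresentation.etale)
    haveI : Surjective snd.left := (repWith_yon_map_iff (P := @Surjective) snd).1
      (repWith_of_isPullback sq (D t.1).isPresentation.surjective)
    haveI : Etale fst.left := (repWith_yon_map_iff (P := (@Etale : MorphismProperty Scheme.{u})) fst).1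
      (repWith_of_isPullback sq.flip (hq t.1))
    haveI : Smooth (ZQ t.1).hom := EtLocProp.srcDescent (P := @Smooth) snd.left (ZQ t.1).hom (by
      rw [Over.w snd, ← Over.w fst]; infer_instance)
    change Smooth (t.2.1.ι ≫ (ZQ t.1).hom)
    infer_instance
  · obtain ⟨L, _, _, _, _, u, ρ₀, hρ₀⟩ := exists_galois_lift a hsm hsurj sk x
    let e : ULift.{u} (Fin (Nat.card (L ≃ₐ[k] L))) ≃ (L ≃ₐ[k] L) :=
      Equiv.ulift.trans (Finite.equivFin (L ≃ₐ[k] L)).symm
    let i : Ix := ⟨Nat.card (L ≃ₐ[k] L), e.group⟩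
    letI : Group (ULift.{u} (Fin i.1)) := e.group
    obtain ⟨l, σ, hσ, htr, hl, α, hα, hθ⟩ :=
      exists_orbit_point (fun K _ str z => hplift K str z) sk x u ρ₀ hρ₀ e.mulEquiv (A i)
    haveI : Algebra.FinitePresentation k L := (Algebra.FinitePresentation.of_finiteType).1 inferInstance
    haveI : Algebra.FormallyEtale k L := (Algebra.FormallyEtale.iff_isSeparable k L).2 inferInstance
    haveI : Algebra.Etale k L := { }
    haveI : Etale (gι sk L).left := (HasRingHomProperty.Spec_iff (P := @Etale)).2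
      (RingHom.etale_algebraMap.2 (inferInstanceAs (Algebra.Etale k L)))
    haveI : Surjective (gι sk L).left := ⟨fun y => ⟨IsLocalRing.closedPoint L,
      (inferInstance : Subsingleton (PrimeSpectrum k)).elim _ _⟩⟩
    obtain ⟨y, hy⟩ := MultiSecLib.exists_desc_of_orbit (gι sk L) σ hσ htr ((yon S).map l ≫ (D i).qπ) fun g => by
      rw [← Category.assoc, ← Functor.map_comp, hl, Functor.map_comp, Category.assoc]
      refine congrArg (fun r => (yon S).map l ≫ r) ?_
      rw [← (D i).inj_t g, Functor.map_comp, Category.assoc, (D i).isPresentation.isPullback.w,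
        ← Category.assoc, ← Functor.map_comp, (D i).inj_s, CategoryTheory.Functor.map_id, Category.id_comp]
    obtain ⟨g, hg⟩ := hqlift i k sk y
    obtain ⟨Φ⟩ := hPlift i (gι sk L) x σ hσ htr l hl α hα hθ g (by rw [hg, hy])
    obtain ⟨B, hB, hgB, -⟩ := TopologicalSpace.Opens.isBasis_iff_nbhd.1 (ZQ i).left.isBasis_affineOpens
      (show g.left (IsLocalRing.closedPoint k) ∈ (⊤ : (ZQ i).left.Opens) from trivial)
    let t : ι := ⟨i, B, hB⟩
    have hr : Set.range g.left ⊆ Set.range (Scheme.Opens.ι B) := by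
      rw [Scheme.Opens.range_ι]
      rintro _ ⟨y', rfl⟩
      rw [show y' = IsLocalRing.closedPoint k from (inferInstance : Subsingleton (PrimeSpectrum k)).elim _ _]
      exact hgB
    let g' : Over.mk sk ⟶ Z t := Over.homMk (IsOpenImmersion.lift (Scheme.Opens.ι B) g.left hr) (by
      change _ ≫ (Scheme.Opens.ι B) ≫ (ZQ i).hom = sk
      rw [IsOpenImmersion.lift_fac_assoc]; exact Over.w g)
    have hg' : g' ≫ c t = g := Over.OverMorphism.ext (IsOpenImmersion.lift_fac _ _ _)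
    exact ⟨t, g', ⟨(nonempty_iso_restrict g' (c t) hg' (P i)).some ≪≫ Φ⟩⟩

end StackSecLib
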