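import Groth.Agent.StackSecLib.Chart

/-!
# Smoothness of a morphism from a scheme is checked on an open cover
-/

set_option autoImplicit false
set_option backward.isDefEq.respectTransparency false
set_option backward.isDefEq.respectTransparency.types false

universe u

open CategoryTheory CategoryTheory.Limits AlgebraicGeometry AlgSp FibCat FibLib AlgSpLib AlgStLib

noncomputable section

namespace StackSecLib

variable {S : Scheme.{u}} {𝒳 : AlgSt.Cat S} [IsFibGrpd 𝒳.p]

/-- The open immersions into a scheme have smooth composite with a smooth morphism to a stack. -/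
lemma repByAlgSpWith_smooth_restrict {Z Z' : Over S} (c : Z' ⟶ Z) [Smooth c.left] {P : overCat Z ⥤ᵇ 𝒳}
    (hP : AlgSt.RepByAlgSpWith (LocP @Smooth) P) :
    AlgSt.RepByAlgSpWith (LocP @Smooth) (BasedFunctor.comp (AlgSt.overMap c) P) :=
  repByAlgSpWith_comp' (good_locP _) (repByAlgSpWith_overMap (good_locP _).bc c ((locP_yon_map_iff _).2 ‹_›)) hP

/-- Smoothness of a morphism from a scheme can be checked on an open cover. -/
theorem repByAlgSpWith_smooth_of_open_cover {Z : Over S} {ι : Type u} {Zi : ι → Over S} (c : ∀ i, Zi i ⟶ Z)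
    [∀ i, IsOpenImmersion (c i).left] (hc : ∀ t : Z.left, ∃ i s, (c i).left s = t) {P : overCat Z ⥤ᵇ 𝒳}
    (hrep : AlgSt.RepByAlgSp1 P)
    (h : ∀ i, AlgSt.RepByAlgSpWith (LocP @Smooth) (BasedFunctor.comp (AlgSt.overMap (c i)) P)) :
    AlgSt.RepByAlgSpWith (LocP @Smooth) P := by
  refine repByAlgSpWith_of_forall hrep fun T u H a hH ha => ?_
  obtain ⟨b', -, -, ⟨β⟩⟩ := exists_inverse (isEquivOver_toOverCat Z)
  obtain ⟨v, hv⟩ : ∃ v : AlgSt.ofSp H ⥤ᵇ overCat Z, ∀ (i : ι) {K : Sp S} (b : K ⟶ H),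
      Along v (AlgSt.overMap (c i)) b.hom → Along u (BasedFunctor.comp (AlgSt.overMap (c i)) P) (b ≫ a).hom := by
    obtain ⟨e, he, ⟨β₀⟩⟩ := id ha
    refine ⟨BasedFunctor.comp e (fpSnd u P), fun i {K} b hb => ?_⟩
    haveI : (BasedFunctor.id (overCat Z)).toFunctor.Full := inferInstanceAs (𝟭 _).Full
    haveI : (BasedFunctor.id (overCat Z)).toFunctor.Faithful := inferInstanceAs (𝟭 _).Faithful
    have hE : IsEquivOver (fpMap (a := e) (b := BasedFunctor.id (overCat (Zi i))) (c := BasedFunctor.id (overCat Z))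
        (F := fpSnd u P) (G := AlgSt.overMap (c i)) (F' := BasedFunctor.comp e (fpSnd u P))
        (G' := AlgSt.overMap (c i)) (Iso.refl _) (Iso.refl _)) := isEquivOver_fpMap _ _ he (isEquivOver_id _)
    refine PRep.transport (PRep.postcomp hb a.hom) (isEquivOver_comp hE (isEquivOver_fpCompRight u (AlgSt.overMap (c i)) P)) ?_
    exact whiskerLeftIso' (FibCat.fpFst (BasedFunctor.comp e (fpSnd u P)) (AlgSt.overMap (c i))) β₀
  let η : H ⟶ (yon S).obj Z := ObjectProperty.homMk (mapOf (BasedFunctor.comp v b'))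
  let K : ι → Sp S := fun i => pullback ((yon S).map (c i)) η
  let b : ∀ i, K i ⟶ H := fun i => pullback.snd ((yon S).map (c i)) η
  have sq := fun i => IsPullback.of_hasPullback ((yon S).map (c i)) η
  have hK : ∀ i, IsAlgSpace (K i) := fun i =>
    isAlgSpace_pullback (IsAlgSpace.yon_obj _) hH (IsAlgSpace.yon_obj Z) _ _
  have halong : ∀ i, Along v (AlgSt.overMap (c i)) (b i).hom := fun i => by
    obtain ⟨α⟩ := nonempty_iso_mapOf (BasedFunctor.comp v b')
    have h₁ : Along (BasedFunctor.comp v b') (AlgSt.ofSpMap ((yon S).map (c i))) (b i).hom :=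
      (along_ofPshMap (isPullback_sheaf (sq i))).congr α.symm (Iso.refl _)
    exact ((along_of_square (f := AlgSt.overMap (c i)) (f' := AlgSt.ofSpMap ((yon S).map (c i)))
      (a := AlgSt.toOverCat (Zi i)) (b := AlgSt.toOverCat Z) (isEquivOver_toOverCat _) (isEquivOver_toOverCat Z)
      (Iso.refl _) _ _).mp h₁).congr (whiskerLeftIso' v β) (Iso.refl _)
  have het : ∀ i, IsEtaleMor (b i) := fun i =>
    isEtaleMor_of_isPullback (IsAlgSpace.yon_obj _) (IsAlgSpace.yon_obj Z) hH (sq i)
      (isEtaleMor_of_repWith ((repWith_yon_map_iff (P := (@Etale : MorphismProperty Scheme.{u})) (c i)).2 inferInstance))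
  have hsm : ∀ i, LocP @Smooth (b i ≫ a) := fun i =>
    prop_of_along (good_locP _).bc.precomp_iso (h i) (hv i (b i) (halong i))
  refine locP_of_cover hH hK b het (fun y => ?_) hsm
  obtain ⟨i, s, hs⟩ := hc (Points.toScheme Z (Points.map η y))
  obtain ⟨w, -, hw⟩ := exists_point_isPullback (sq i) (Points.ofScheme (Zi i) s) y (by
    rw [← Points.ofScheme_toScheme Z (Points.map η y), ← hs]
    exact Points.map_yon_map_apply (c i) s)
  exact ⟨i, w, hw⟩

end StackSecLib
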