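import Groth.Agent.StackSecLib.Cover
import Groth.Agent.MultiSecLib.Descend

/-!
# Morphisms of objects invariant under transitive deck transformations descend
-/

set_option autoImplicit false
set_option backward.isDefEq.respectTransparency false
set_option backward.isDefEq.respectTransparency.types false

universe w u

open CategoryTheory CategoryTheory.Limits AlgebraicGeometry AlgSp FibCat FibLib
open CategoryTheory.Functor (IsStronglyCartesian)

noncomputable section

namespace StackSecLib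

variable {S : Scheme.{u}}

/-- Two maps with equal composite to the base are locally related by deck transformations. -/
theorem exists_cover_of_orbit {O Y : Over S} (π : O ⟶ Y) [Etale π.left] {G : Type w} (σ : G → (O ⟶ O))
    (hσ : ∀ g, σ g ≫ π = π)
    (htr : ∀ (K : Type u) [Field K] [IsAlgClosed K] (a b : Spec (CommRingCat.of K) ⟶ O.left),
      a ≫ π.left = b ≫ π.left → ∃ g, a ≫ (σ g).left = b)
    {T : Over S} (g g' : T ⟶ O) (hgg : g ≫ π = g' ≫ π) :
    ∃ (R : Sieve T), R ∈ Jet S T ∧ ∀ ⦃V : Over S⦄ (f : V ⟶ T), R f → ∃ γ, f ≫ g ≫ σ γ = f ≫ g' := by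
  let L : ∀ γ : G, T.left ⟶ pullback π.left π.left := fun γ =>
    pullback.lift (g ≫ σ γ).left g'.left (by
      rw [← Over.comp_left, ← Over.comp_left, Category.assoc, hσ, hgg])
  have hcov : ∀ z : T.left, ∃ γ : G, z ∈ Set.range (pullback.snd (pullback.diagonal π.left) (L γ)) := by
    intro z
    let K := AlgebraicClosure (T.left.residueField z)
    let ξ : Spec (CommRingCat.of K) ⟶ T.left :=
      Spec.map (CommRingCat.ofHom (algebraMap (T.left.residueField z) K)) ≫ T.left.fromSpecResidueField z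
    obtain ⟨γ, hγ⟩ := htr K (ξ ≫ g.left) (ξ ≫ g'.left) (by
      simp only [Category.assoc, ← Over.comp_left, hgg])
    refine ⟨γ, (pullback.lift (f := pullback.diagonal π.left) (g := L γ) (ξ ≫ g'.left) ξ ?_)
      (IsLocalRing.closedPoint K), ?_⟩
    · apply pullback.hom_ext
      · simp only [Category.assoc, pullback.diagonal_fst, Category.comp_id, L, pullback.lift_fst, Over.comp_left]
        rw [← Category.assoc ξ, hγ]
      · simp only [Category.assoc, pullback.diagonal_snd, Category.comp_id, L, pullback.lift_snd]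
    · rw [← Scheme.Hom.comp_apply, pullback.lift_snd]
      simp only [ξ, Scheme.Hom.comp_apply]
      exact Scheme.fromSpecResidueField_apply _ _
  choose γ hγ using hcov
  let Tk : T.left → Over S := fun z => Over.mk (pullback.snd (pullback.diagonal π.left) (L (γ z)) ≫ T.hom)
  let c : ∀ z, Tk z ⟶ T := fun z => Over.homMk (pullback.snd (pullback.diagonal π.left) (L (γ z))) rfl
  haveI : ∀ z, IsOpenImmersion (c z).left := fun z =>
    inferInstanceAs (IsOpenImmersion (pullback.snd (pullback.diagonal π.left) (L (γ z))))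
  refine ⟨Sieve.generate (Presieve.ofArrows Tk c), GrothendieckTopology.superset_covering _ le_rfl
    (EtDescentLib.ofArrows_mem Tk c (fun z => inferInstance) fun z => ?_), ?_⟩
  · obtain ⟨t, ht⟩ := hγ z
    exact ⟨z, t, ht⟩
  rintro V f ⟨_, m, _, ⟨z⟩, rfl⟩
  refine ⟨γ z, ?_⟩
  simp only [Category.assoc]
  congr 1
  apply Over.OverMorphism.ext
  simp only [Over.comp_left, c, Over.homMk_left]
  have h := pullback.condition (f := pullback.diagonal π.left) (g := L (γ z))
  have h₁ := congrArg (fun t => t ≫ pullback.fst _ _) h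
  have h₂ := congrArg (fun t => t ≫ pullback.snd _ _) h
  simp only [Category.assoc, pullback.diagonal_fst, pullback.diagonal_snd, Category.comp_id, L,
    pullback.lift_fst, pullback.lift_snd, Over.comp_left] at h₁ h₂
  exact h₁.symm.trans h₂

variable {𝒳 : AlgSt.Cat S} [IsFibGrpd 𝒳.p]

/-- An invariant vertical morphism over an orbit cover gives a morphism over the base. -/
theorem exists_hom_of_orbit (hst : Stk.IsStack (Jet S) 𝒳) {O Y : Over S} (π : O ⟶ Y) [Etale π.left]
    [Surjective π.left] {G : Type w} (σ : G → (O ⟶ O)) (hσ : ∀ g, σ g ≫ π = π)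
    (htr : ∀ (K : Type u) [Field K] [IsAlgClosed K] (a b : Spec (CommRingCat.of K) ⟶ O.left),
      a ≫ π.left = b ≫ π.left → ∃ g, a ≫ (σ g).left = b)
    (K K' : overCat Y ⥤ᵇ 𝒳) (ψ₁ : K.obj (Over.mk π) ⟶ K'.obj (Over.mk π)) (hψ₁ : 𝒳.p.IsHomLift (𝟙 O) ψ₁)
    (hinv : ∀ g (k : Over.mk π ⟶ Over.mk π), k.left = σ g → K.map k ≫ ψ₁ = ψ₁ ≫ K'.map k) :
    Nonempty (K ⟶ K') := by
  have hp := AlgStLib.isPrestack_of_isStack hst
  let n : ∀ {T : Over S} (w : T ⟶ O), Over.mk (w ≫ π) ⟶ Over.mk π := fun w => Over.homMk w rfl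
  have hex : ∀ {T : Over S} (w : T ⟶ O), ∃ e : K.obj (Over.mk (w ≫ π)) ⟶ K'.obj (Over.mk (w ≫ π)),
      𝒳.p.IsHomLift (𝟙 T) e ∧ e ≫ K'.map (n w) = K.map (n w) ≫ ψ₁ := by
    intro T w
    haveI : 𝒳.p.IsHomLift w (K'.map (n w)) := lift_map K' (n w)
    haveI : 𝒳.p.IsStronglyCartesian w (K'.map (n w)) := FibLib.isStronglyCartesian_of_isFibGrpd (p := 𝒳.p) _ _
    haveI : 𝒳.p.IsHomLift w (K.map (n w) ≫ ψ₁) :=
      GerbeLib.isHomLift_comp_id _ _ _ _ (lift_map K (n w)) hψ₁
    exact ⟨IsStronglyCartesian.map 𝒳.p w (K'.map (n w)) (g := 𝟙 T) (f' := w) (Category.id_comp _).symm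
        (K.map (n w) ≫ ψ₁),
      IsStronglyCartesian.map_isHomLift 𝒳.p w (K'.map (n w)) (g := 𝟙 T) (f' := w) (Category.id_comp _).symm
        (K.map (n w) ≫ ψ₁),
      IsStronglyCartesian.fac 𝒳.p w (K'.map (n w)) (g := 𝟙 T) (f' := w) (Category.id_comp _).symm
        (K.map (n w) ≫ ψ₁)⟩
  choose app hlift happ using fun (o : Over O) => hex (T := o.left) o.hom
  have happ' : ∀ {T : Over S} (w : T ⟶ O), app (Over.mk w) ≫ K'.map (n w) = K.map (n w) ≫ ψ₁ := fun w =>
    happ (Over.mk w)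
  have huniq : ∀ {T T' : Over S} (w : T ⟶ O) (m : T' ⟶ T)
      {f f' : K.obj (Over.mk ((m ≫ w) ≫ π)) ⟶ K'.obj (Over.mk (w ≫ π))},
      𝒳.p.IsHomLift m f → 𝒳.p.IsHomLift m f' → f ≫ K'.map (n w) = f' ≫ K'.map (n w) → f = f' := by
    intro T T' w m f f' hf hf' e
    haveI := hf; haveI := hf'
    haveI : 𝒳.p.IsHomLift w (K'.map (n w)) := lift_map K' (n w)
    haveI : 𝒳.p.IsStronglyCartesian w (K'.map (n w)) := FibLib.isStronglyCartesian_of_isFibGrpd (p := 𝒳.p) _ _
    exact IsStronglyCartesian.ext 𝒳.p w (K'.map (n w)) m e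
  have hnat : ∀ {o' o : Over O} (k : o' ⟶ o),
      K.map ((FibLib.overMap π).map k) ≫ app o = app o' ≫ K'.map ((FibLib.overMap π).map k) := by
    intro o' o k
    obtain ⟨T', w', rfl⟩ := o'.mk_surjective
    obtain ⟨T, w, rfl⟩ := o.mk_surjective
    obtain ⟨m, hm, rfl⟩ : ∃ (m : T' ⟶ T) (hm : m ≫ w = w'), k = Over.homMk m hm :=
      ⟨k.left, Over.w k, Over.OverMorphism.ext rfl⟩
    subst hm
    have hh : (FibLib.overMap π).map (Over.homMk m rfl : Over.mk (m ≫ w) ⟶ Over.mk w) ≫ n w = n (m ≫ w) :=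
      Over.OverMorphism.ext rfl
    let k₀ : Over.mk ((m ≫ w) ≫ π) ⟶ Over.mk (w ≫ π) :=
      (FibLib.overMap π).map (Over.homMk m rfl : Over.mk (m ≫ w) ⟶ Over.mk w)
    refine huniq w m
      (GerbeLib.isHomLift_comp_id _ _ _ _ (lift_map K k₀ : 𝒳.p.IsHomLift m (K.map k₀)) (hlift (Over.mk w)))
      (GerbeLib.isHomLift_id_comp _ _ _ _ (hlift (Over.mk (m ≫ w)))
        (lift_map K' k₀ : 𝒳.p.IsHomLift m (K'.map k₀))) ?_
    change (K.map _ ≫ app (Over.mk w)) ≫ _ = (app (Over.mk (m ≫ w)) ≫ K'.map _) ≫ _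
    rw [Category.assoc, happ' w, Category.assoc, ← K'.toFunctor.map_comp, hh,
      happ' (m ≫ w), ← Category.assoc]
    exact congrArg (fun q => q ≫ ψ₁) ((K.toFunctor.map_comp _ _).symm.trans (congrArg K.map hh))
  let ψ : BasedFunctor.comp (FibLib.overMap π) K ⟶ BasedFunctor.comp (FibLib.overMap π) K' :=
    { toNatTrans := { app := app, naturality := fun o' o k => hnat k }
      isHomLift' := hlift }
  have hmem : famSieve (fun _ : PUnit.{u + 1} => π) ∈ Jet S Y :=
    famSieve_mem _ (fun _ => inferInstance) fun z => by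
      obtain ⟨t, ht⟩ := π.left.surjective z
      exact ⟨PUnit.unit, t, ht⟩
  obtain ⟨α, -⟩ := exists_hom_of_local (c := fun _ : PUnit.{u + 1} => π) (hp.2 _ hmem) K K' (fun _ => ψ)
    fun {T i j} w w' e k hk => by
      change K.map k ≫ app (Over.mk w') = app (Over.mk w) ≫ K'.map k
      obtain ⟨R, hR, hRσ⟩ := exists_cover_of_orbit π σ hσ htr w w' e
      refine StkTopLib.vert_ext hp (ha := GerbeLib.isHomLift_id_comp _ _ _ _ (hk ▸ lift_map K k) (hlift (Over.mk w')))
        (hb := GerbeLib.isHomLift_id_comp _ _ _ _ (hlift (Over.mk w)) (hk ▸ lift_map K' k)) _ _ hR fun V f hf => ?_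
      obtain ⟨γ, hγ⟩ := hRσ f hf
      let kf : Over.mk (f ≫ w) ⟶ Over.mk w := Over.homMk f rfl
      let kf' : Over.mk (f ≫ w') ⟶ Over.mk w' := Over.homMk f rfl
      let kf₀ : Over.mk ((f ≫ w) ≫ π) ⟶ Over.mk (w ≫ π) := (FibLib.overMap π).map kf
      refine ⟨_, K.map ((FibLib.overMap π).map kf), (lift_map K kf₀ : 𝒳.p.IsHomLift f (K.map kf₀)), ?_⟩
      rw [reassoc_of% hnat kf, ← K'.toFunctor.map_comp, ← Category.assoc, ← K.toFunctor.map_comp]
      let k' : Over.mk ((f ≫ w) ≫ π) ⟶ Over.mk ((f ≫ w') ≫ π) := Over.homMk (𝟙 V) (by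
        change 𝟙 V ≫ (f ≫ w') ≫ π = (f ≫ w) ≫ π
        rw [Category.id_comp, Category.assoc, ← e, Category.assoc])
      have h1 : (FibLib.overMap π).map kf ≫ k = k' ≫ (FibLib.overMap π).map kf' := Over.OverMorphism.ext (by
        change f ≫ k.left = 𝟙 V ≫ f
        rw [hk]
        exact (Category.comp_id f).trans (Category.id_comp f).symm)
      rw [h1, K.toFunctor.map_comp, K'.toFunctor.map_comp, Category.assoc, hnat kf', ← Category.assoc,
        ← Category.assoc]
      congr 1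
      change K.map k' ≫ app (Over.mk (f ≫ w')) = app (Over.mk (f ≫ w)) ≫ K'.map k'
      let kσ : Over.mk π ⟶ Over.mk π := Over.homMk (σ γ) (hσ γ)
      have h2 : k' ≫ n (f ≫ w') = n (f ≫ w) ≫ kσ := Over.OverMorphism.ext (by
        change 𝟙 V ≫ (f ≫ w') = (f ≫ w) ≫ σ γ
        rw [Category.id_comp, Category.assoc, hγ])
      have hl₁ : 𝒳.p.IsHomLift (𝟙 V) (K.map k' ≫ app (Over.mk (f ≫ w'))) :=
        GerbeLib.isHomLift_id_comp _ _ _ _ (lift_map K k') (hlift (Over.mk (f ≫ w')))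
      have hl₂ : 𝒳.p.IsHomLift (𝟙 V) (app (Over.mk (f ≫ w)) ≫ K'.map k') :=
        GerbeLib.isHomLift_id_comp _ _ _ _ (hlift (Over.mk (f ≫ w))) (lift_map K' k')
      haveI : 𝒳.p.IsHomLift (f ≫ w') (K'.map (n (f ≫ w'))) := lift_map K' (n (f ≫ w'))
      haveI : 𝒳.p.IsStronglyCartesian (f ≫ w') (K'.map (n (f ≫ w'))) :=
        FibLib.isStronglyCartesian_of_isFibGrpd (p := 𝒳.p) _ _
      haveI := hl₁
      haveI := hl₂
      refine IsStronglyCartesian.ext 𝒳.p (f ≫ w') (K'.map (n (f ≫ w'))) (𝟙 V) ?_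
      refine (Category.assoc _ _ _).trans ((congrArg (fun q => K.map k' ≫ q) (happ' (f ≫ w'))).trans ?_)
      refine Eq.trans ?_ (((Category.assoc _ _ _).trans (congrArg (fun q => app (Over.mk (f ≫ w)) ≫ q)
        ((K'.toFunctor.map_comp _ _).symm.trans ((congrArg K'.map h2).trans (K'.toFunctor.map_comp _ _)))))).symm
      refine Eq.trans ?_ ((Category.assoc _ _ _).symm.trans ((congrArg (fun q => q ≫ K'.map kσ) (happ' (f ≫ w))).trans
        ((Category.assoc _ _ _).trans (congrArg (fun q => K.map (n (f ≫ w)) ≫ q) (hinv γ kσ rfl).symm)))).symm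
      refine (Category.assoc _ _ _).symm.trans ((congrArg (fun q => q ≫ ψ₁) ?_).trans (Category.assoc _ _ _))
      exact (K.toFunctor.map_comp _ _).symm.trans ((congrArg K.map h2).trans (K.toFunctor.map_comp _ _))
  exact ⟨α⟩

end StackSecLib
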